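/-
Standard subgroups of type `L₂(2^a)` (S1773): the frame. See `notes/L2S.md`.
-/
import Cfsg.Agent.TL2.Basic
import Cfsg.Agent.H22.SL2Mult
import Cfsg.Prelude.Def_ClassificationK
import Cfsg.Prelude.Def_LieTypeChar
import Cfsg.Prelude.Def_Spor_Mathieu
import Cfsg.Prelude.Def_Spor_J1
import Cfsg.Prelude.Def_LieTwisted
import Cfsg.Prelude.Def_TwoFusion

set_option autoImplicit false
set_option linter.unusedSectionVars false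

namespace Cfsg.Agent.L2S

open Cfsg Subgroup H49
open H42 (SylIn)
open TL2 (cm cm' mn mem_sup_t p2_zpowers p2_sup)
open scoped MatrixGroups

/-- The frame: `A = φ(SL₂(F))`, `t` an involution centralizing `A` with `C(t) ≤ N(A)`, `T` a Sylow
`2`-subgroup of `C(t)` containing the upper unitriangular group and centralizing `z 1`. -/
structure Ctx0 (G F : Type*) [Group G] [Field F] where
  E : Subgroup G
  T : Subgroup G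
  t : G
  φ : SL(2, F) →* G
  l : Fˣ
  a : ℕ
  card : Nat.card F = 2 ^ a
  ha : 2 ≤ a
  gen : ∀ b : F, b ≠ 0 → ∃ i : ℕ, ((l : F) ^ 2) ^ i = b
  inj : Function.Injective φ
  En : E.Normal
  Es : IsSimpleGroup E
  AE : φ.range ≤ E
  CE : 𝒞(E) = ⊥
  hO : oddCore G = ⊥
  nA : ¬ φ.range.Normal
  tt : t * t = 1
  t1 : t ≠ 1
  tc : ∀ x, t * φ x = φ x * t
  CN : 𝒞[t] ≤ 𝒩(φ.range)
  syl : SylIn 2 T 𝒞[t]
  zT : ∀ b, φ (H66.upT b) ∈ T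
  fix : ∀ x ∈ T, x * φ (H66.upT 1) = φ (H66.upT 1) * x
  cyc : IsCyclic (T ⊓ 𝒞(φ.range) : Subgroup G)

/-- The frame when the Sylow subgroup of `C(A)` is `⟨t⟩`. -/
structure Ctx (G F : Type*) [Group G] [Field F] extends Ctx0 G F where
  R2 : ∀ x ∈ T, x ∈ 𝒞(φ.range) → x = 1 ∨ x = t

variable {G F : Type*} [Group G] [Field F]

namespace Ctx0

variable (c : Ctx0 G F)

def A : Subgroup G := c.φ.range
def z (b : F) : G := c.φ (H66.upT b)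
def h : G := c.φ (H9.diagHom F c.l)
def μ : F := (c.l : F) ^ 2
/-- the Sylow `2`-subgroup of `A` -/
def V : Subgroup G where
  carrier := {x | ∃ b, x = c.z b}
  one_mem' := ⟨0, by rw [z, H66.upT_zero, map_one]⟩
  mul_mem' := by
    rintro _ _ ⟨b, rfl⟩ ⟨d, rfl⟩
    exact ⟨b + d, by rw [z, z, z, H66.upT_add, map_mul]⟩
  inv_mem' := by
    rintro _ ⟨b, rfl⟩
    refine ⟨-b, inv_eq_of_mul_eq_one_right ?_⟩
    rw [z, z, ← map_mul, ← H66.upT_add, add_neg_cancel, H66.upT_zero, map_one]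
/-- `P Q = Q ⟨t⟩` -/
def P (Q : Subgroup G) : Subgroup G := Q ⊔ zpowers c.t
def B : Subgroup G := c.P c.V
def N1 : Subgroup G := 𝒞[c.t] ⊓ 𝒩(c.V)
/-- the odd part of `C(t) ∩ C(A)` -/
def O : Subgroup G := (oddCore (𝒞[c.t] ⊓ 𝒞(c.A) : Subgroup G)).map (Subgroup.subtype _)
/-- the coordinate on `V` -/
noncomputable def co (x : G) : F := Function.invFun c.z x
noncomputable def π (j : ℕ) (x : G) : F := c.co (x ^ 2 ^ j)
/-- translation part of the action of `N(P Q)` on `t Q / Q²` -/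
noncomputable def β (j : ℕ) (g : G) : F := c.π j (c.t * (g * c.t * g⁻¹))
/-- the action on `V` -/
noncomputable def L (g : G) (b : F) : F := c.co (g * c.z b * g⁻¹)

/-- `V` is strongly closed in `S` with respect to `E` -/
def SCV (S : Subgroup G) : Prop := ∀ v ∈ c.V, ∀ g ∈ c.E, g * v * g⁻¹ ∈ S → g * v * g⁻¹ ∈ c.V

/-- the layer is of Lie type in characteristic two -/
def Good : Prop := IsLieTypeChar 2 c.E

/-- the exceptional outcomes for `a = 2` -/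
def Exc2 : Prop :=
  Spor.IsoM12 c.E ∨ Spor.IsoJ1 c.E ∨ Nonempty (c.E ≃* alternatingGroup (Fin 7)) ∨
    (∃ (K : Type) (_ : Field K) (_ : Fintype K), Fintype.card K = 25 ∧
      (Nonempty (c.E ≃* Matrix.ProjectiveSpecialLinearGroup (Fin 2) K) ∨
        Nonempty (c.E ≃* PSU 3 K 5))) ∨
    ∃ (K : Type) (_ : Field K) (_ : Fintype K), Fintype.card K = 5 ∧
      Nonempty (c.E ≃* Matrix.ProjectiveSpecialLinearGroup (Fin 3) K)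

/-- the exceptional outcome for `a = 3` -/
def Exc3 : Prop :=
  ∃ (K : Type) (_ : Field K) (_ : Fintype K), Fintype.card K = 3 ∧
    Nonempty (c.E ≃* Lie.chevG2.group K)

/-- `t` is conjugate to an element of `T` outside `B` -/
def OF : Prop := ∃ g : G, g * c.t * g⁻¹ ∈ c.T ∧ g * c.t * g⁻¹ ∉ c.B

/-- the main case: the conjugates of `t` in `B` are the elements of `t V`, permuted by `N(B)` -/
structure M0 : Prop where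
  nc : ∀ g : G, g * c.t * g⁻¹ ∉ c.V
  mv : ∃ g ∈ 𝒩(c.B), g * c.t * g⁻¹ ≠ c.t

/-- `B` is the only subgroup of its kind in `T` -/
def U1 : Prop :=
  ∀ D : Subgroup G, D ≤ c.T → (∀ d ∈ D, d * d = 1) → Nat.card D = 2 ^ c.a →
    (∀ d ∈ D, ∃ g : G, g * c.t * g⁻¹ = c.t * d) → D = c.V

/-- a good subgroup -/
structure Gd (Q : Subgroup G) : Prop where
  p2 : IsPGroup 2 Q
  VQ : c.V ≤ Q
  ct : ∀ x ∈ Q, x * c.t = c.t * x → x ∈ c.V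
  nN : c.N1 ≤ 𝒩(Q)

def Inv (Q : Subgroup G) : Prop := ∀ x ∈ Q, c.t * x * c.t = x⁻¹

/-- the conjugates of `t` in `t Q` are conjugate under `Q` -/
def Top (Q : Subgroup G) : Prop :=
  ∀ g : G, c.t * (g * c.t * g⁻¹) ∈ Q → ∃ y ∈ Q, g * c.t * g⁻¹ = y * c.t * y⁻¹

/-- a good subgroup inverted by `t`, homocyclic of exponent `2 ^ (j + 1)` -/
structure Lv (Q : Subgroup G) (j : ℕ) : Prop extends c.Gd Q where
  inv : c.Inv Q
  ex : ∀ x ∈ Q, x ^ 2 ^ (j + 1) = 1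
  sur : ∀ b, ∃ x ∈ Q, x ^ 2 ^ j = c.z b

/-- a non-abelian good subgroup -/
structure NA (Q : Subgroup G) : Prop extends c.Gd Q where
  card : Nat.card Q = (2 ^ c.a) ^ 3
  sq : ∀ x ∈ Q, x * x ∈ c.V
  cen : ∀ x ∈ Q, x ∉ c.V → Nat.card (Q ⊓ 𝒞[x] : Subgroup G) = (2 ^ c.a) ^ 2 ∧
    ∀ y ∈ Q ⊓ 𝒞[x], ∀ y' ∈ Q ⊓ 𝒞[x], y * y' = y' * y
  W1 : ∃ W : Subgroup G, c.Lv W 1 ∧ W ≤ Q ∧ ∀ x ∈ Q, c.t * x * c.t = x⁻¹ → x ∈ W
  typ : (∀ x ∈ Q, x * x = 1 → x ∈ c.V) ∨ ∃ X Y : Subgroup G, X ≤ Q ∧ Y ≤ Q ∧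
    (∀ x ∈ X, x * x = 1) ∧ (∀ y ∈ Y, y * y = 1) ∧ (∀ s ∈ Q, ∃ x ∈ X, ∃ y ∈ Y, s = x * y) ∧
    (∀ s ∈ Q, s * s = 1 → s ∈ X ∨ s ∈ Y) ∧
    (∀ x ∈ X, ∀ y ∈ Y, x * y = y * x → x ∈ Y ∨ y ∈ X) ∧ 2 < X.relIndex Q ∧ 2 < Y.relIndex Q

/-- an abelian good subgroup which is not elementary -/
structure Ab (Q : Subgroup G) : Prop extends c.Gd Q where
  comm : ∀ x ∈ Q, ∀ y ∈ Q, x * y = y * x
  om : ∀ x ∈ Q, x * x = 1 → x ∈ c.V
  sq : ∀ v ∈ c.V, ∃ x ∈ Q, x * x = v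
  card : (2 ^ c.a) ^ 2 ≤ Nat.card Q

/-- an elementary abelian good subgroup of order `q²` -/
structure El (W : Subgroup G) : Prop extends c.Gd W where
  sq : ∀ x ∈ W, x * x = 1
  card : Nat.card W = (2 ^ c.a) ^ 2

/-- the exceptional affine step: `N(P Q)` induces `L₃(2)` on the eight points `t Q / Q²` -/
structure Ex8 (Q : Subgroup G) (j : ℕ) : Prop extends c.Lv Q j, c.M0 where
  a3 : c.a = 3
  ntr : ∀ g ∈ 𝒩(c.P Q), g ∈ 𝒞(c.V) → c.β j g = 0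
  all : ∀ e : F ≃+ F, ∃ g ∈ 𝒩(c.P Q), ∀ b, c.L g b = e b
  fpf : ∀ g ∈ 𝒩(c.P Q), c.β j g = 0 → g * g ∈ 𝒞(c.V) → g ∈ 𝒞(c.V)

/-- the exceptional step with a Sylow subgroup `S` of `E` -/
structure S8 (Q S : Subgroup G) (j : ℕ) : Prop extends c.Ex8 Q j where
  tE : c.t ∉ c.E
  sylE : SylIn 2 S c.E
  syl1 : SylIn 2 (c.P S) ⊤
  QS : Q ≤ S
  SN : S ≤ 𝒩(c.P Q)
  tS : c.t ∈ 𝒩(S)
  CS : ∀ x ∈ S, x ∈ 𝒞(c.V) → x ∈ Q
  cardS : Nat.card S = 8 * Nat.card Q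
  fus : ∀ g : G, g * c.t * g⁻¹ ∈ c.P S → c.t * (g * c.t * g⁻¹) ∈ Q
  tr : ∀ x ∈ Q, ∃ s ∈ S, s * c.t * s⁻¹ = c.t * x
  allE : ∀ e : F ≃+ F, ∃ g ∈ 𝒩(c.P Q), g ∈ c.E ∧ ∀ b, c.L g b = e b

/-- `a = 2` and `T = ⟨t⟩ × D`, `D = V ⟨f⟩` dihedral of order eight -/
structure D2 (f v : G) : Prop where
  a2 : c.a = 2
  fT : f ∈ c.T
  ff : f * f = 1
  fB : f ∉ c.B
  vV : v ∈ c.V
  fv : f * v * f = v * c.z 1
  nc : ∀ g : G, g * c.t * g⁻¹ ∉ c.V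

/-- `a = 2`, the layer has `2`-rank two and contains an element inducing an outer automorphism
on `A` -/
def R2D : Prop := PRankLE 2 2 c.E ∧ c.t ∉ c.E ∧ ∃ f ∈ c.E, f ∈ c.T ∧ f * f = 1 ∧ f ∉ c.B

/-- `a = 2`, `W` elementary of order `16`, `S / W` dihedral of order eight with centre `f W`,
`J / W = ⟨f, u⟩` a four-group not containing `t` -/
structure D8s (f v u : G) (W J S : Subgroup G) : Prop extends c.D2 f v, c.El W where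
  mv : ∃ g ∈ 𝒩(c.B), g * c.t * g⁻¹ ≠ c.t
  syl : SylIn 2 S ⊤
  SN : S ≤ 𝒩(W)
  TS : c.T ≤ S
  JS : J ≤ S
  WJ : W ≤ J
  uJ : u ∈ J
  memJ : ∀ x, x ∈ J ↔ ∃ w ∈ W, x = w ∨ x = w * f ∨ x = w * u ∨ x = w * (f * u)
  memS : ∀ x ∈ S, x ∈ J ∨ c.t * x ∈ J
  cardJ : Nat.card J = 64
  tJ : ∀ g : G, g * c.t * g⁻¹ ∉ J
  utu : f * c.t * (u * c.t * u⁻¹) ∈ W
  cardZ : Nat.card (W ⊓ 𝒞[f] : Subgroup G) = 4
  cZ : ∀ x ∈ J, ∀ w ∈ W ⊓ 𝒞[f], x * w = w * x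
  kZ : ∀ x ∈ J, ∀ y ∈ J, x * y * x⁻¹ * y⁻¹ ∈ W ⊓ 𝒞[f]
  fus : ∀ g : G, g * c.t * g⁻¹ ∈ S → ∃ s ∈ S, g * c.t * g⁻¹ = s * c.t * s⁻¹
  tE : c.t ∉ c.E

theorem z_add (a b : F) : c.z (a + b) = c.z a * c.z b := by rw [z, z, z, H66.upT_add, map_mul]
@[simp] theorem z_zero : c.z 0 = 1 := by rw [z, H66.upT_zero, map_one]
theorem z_injective : Function.Injective c.z := fun _ _ e =>
  congrArg (fun g : SL(2, F) => g.1 0 1) (c.inj e)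
theorem z_inj {a b : F} : c.z a = c.z b ↔ a = b := c.z_injective.eq_iff
theorem z_eq_one {a : F} : c.z a = 1 ↔ a = 0 := by rw [← c.z_zero, z_inj]
@[simp] theorem co_z (b : F) : c.co (c.z b) = b := Function.leftInverse_invFun c.z_injective b
theorem mem_V {x : G} : x ∈ c.V ↔ ∃ b, x = c.z b := Iff.rfl
theorem z_mem (b : F) : c.z b ∈ c.V := ⟨b, rfl⟩
theorem z_co {x : G} (hx : x ∈ c.V) : c.z (c.co x) = x := by
  obtain ⟨b, rfl⟩ := hx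
  rw [co_z]
theorem z_mem_A (b : F) : c.z b ∈ c.A := ⟨_, rfl⟩
theorem V_le_A : c.V ≤ c.A := by rintro _ ⟨b, rfl⟩; exact c.z_mem_A b
theorem V_le_T : c.V ≤ c.T := by rintro _ ⟨b, rfl⟩; exact c.zT b
theorem V_le_E : c.V ≤ c.E := c.V_le_A.trans c.AE
theorem h_mem_A : c.h ∈ c.A := ⟨_, rfl⟩
theorem h_mem_E : c.h ∈ c.E := c.AE c.h_mem_A
theorem tA {x : G} (hx : x ∈ c.A) : c.t * x = x * c.t := by
  obtain ⟨y, rfl⟩ := hx
  exact c.tc y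
theorem tz (b : F) : c.t * c.z b = c.z b * c.t := c.tA (c.z_mem_A b)
theorem th : c.t * c.h = c.h * c.t := c.tA c.h_mem_A
@[simp] theorem t_inv : c.t⁻¹ = c.t := inv_eq_of_mul_eq_one_right c.tt
theorem tt' (x : G) : c.t * (c.t * x) = x := by rw [← mul_assoc, c.tt, one_mul]
theorem z_comm (a b : F) : c.z a * c.z b = c.z b * c.z a := by rw [← z_add, ← z_add, add_comm]
theorem h_z (b : F) : c.h * c.z b * c.h⁻¹ = c.z (c.μ * b) := by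
  rw [h, z, z, ← map_inv, ← map_mul, ← map_mul, H22.diag_conj_upT, μ]
theorem h_pow_z (i : ℕ) (b : F) : c.h ^ i * c.z b * (c.h ^ i)⁻¹ = c.z (c.μ ^ i * b) := by
  induction i with
  | zero => simp
  | succ i ih =>
    rw [pow_succ', mul_inv_rev, show c.h * c.h ^ i * c.z b * ((c.h ^ i)⁻¹ * c.h⁻¹) =
      c.h * (c.h ^ i * c.z b * (c.h ^ i)⁻¹) * c.h⁻¹ by group, ih, h_z, pow_succ', mul_assoc]
theorem gen' {b : F} (hb : b ≠ 0) : ∃ i : ℕ, c.μ ^ i = b := c.gen b hb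
theorem T_le : c.T ≤ 𝒞[c.t] := c.syl.le
theorem Tt {x : G} (hx : x ∈ c.T) : x * c.t = c.t * x := mem_cent1.1 (c.T_le hx)
theorem Tz {x : G} (hx : x ∈ c.T) : x * c.z 1 = c.z 1 * x := c.fix x hx
theorem le_P (Q : Subgroup G) : Q ≤ c.P Q := le_sup_left
theorem t_mem_P (Q : Subgroup G) : c.t ∈ c.P Q := mem_sup_right (mem_zpowers _)
theorem P_mono {X Y : Subgroup G} (h : X ≤ Y) : c.P X ≤ c.P Y := sup_le_sup_right h _
theorem mem_N1 {g : G} : g ∈ c.N1 ↔ g * c.t = c.t * g ∧ g ∈ 𝒩(c.V) := and_congr_left' mem_cent1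

variable [Finite G]

theorem mem_P {Q : Subgroup G} (h : c.t ∈ 𝒩(Q)) {x : G} : x ∈ c.P Q ↔ x ∈ Q ∨ c.t * x ∈ Q :=
  mem_sup_t c.tt h
theorem t_mem_NV : c.t ∈ 𝒩(c.V) := mn (by
  rintro _ ⟨b, rfl⟩
  rw [c.tz, mul_inv_cancel_right]
  exact c.z_mem b)
theorem h_mem_NV : c.h ∈ 𝒩(c.V) := mn (by
  rintro _ ⟨b, rfl⟩
  exact ⟨_, c.h_z b⟩)
theorem t_mem_N1 : c.t ∈ c.N1 := c.mem_N1.2 ⟨rfl, c.t_mem_NV⟩
theorem h_mem_N1 : c.h ∈ c.N1 := c.mem_N1.2 ⟨c.th.symm, c.h_mem_NV⟩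
theorem mem_B {x : G} : x ∈ c.B ↔ x ∈ c.V ∨ c.t * x ∈ c.V := c.mem_P c.t_mem_NV
theorem Gd.tN {c : Ctx0 G F} {Q : Subgroup G} (h : c.Gd Q) : c.t ∈ 𝒩(Q) := h.nN c.t_mem_N1
theorem Gd.hN {c : Ctx0 G F} {Q : Subgroup G} (h : c.Gd Q) : c.h ∈ 𝒩(Q) := h.nN c.h_mem_N1
theorem Gd.pP {c : Ctx0 G F} {Q : Subgroup G} (h : c.Gd Q) : IsPGroup 2 (c.P Q) :=
  p2_sup h.p2 (p2_zpowers c.tt) (zpowers_le.2 h.tN)

end Ctx0

end Cfsg.Agent.L2S
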