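/-
Standard subgroups of type `L₂(2^a)` (S1773): facts on `D₈ × D₈`.
-/
import Cfsg.Agent.L2S.Defs
import Cfsg.Agent.H40.Dih

set_option autoImplicit false
set_option linter.unusedSectionVars false

namespace Cfsg.Agent.L2S

open Cfsg Subgroup H49
open TL2 (cm cm' mn)
open DihedralGroup (r sr)

namespace DD

abbrev M := DihedralGroup 4 × DihedralGroup 4

def Pp (m : M) : Prop := ∀ a : M, a * m = m * a → a * a = 1

def Adj (m m' : M) : Prop :=
  m * m' ≠ m' * m ∧ ∃ a : M, a * m = m * a ∧ a * m' = m' * a ∧ ∃ b : M, a * b ≠ b * a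

instance : DecidablePred Pp := fun m => by unfold Pp; infer_instance
instance : DecidableRel Adj := fun m m' => by unfold Adj; infer_instance

theorem m1 : ∀ m : M, Pp m → ∃ i j : ZMod 4, m = (sr i, sr j) := by decide +kernel

theorem m2 : ∀ i j i' j' : ZMod 4, Adj (sr i, sr j) (sr i', sr j') ↔ (i + j).val % 2 ≠ (i' + j').val % 2 := by
  decide +kernel

theorem m3 : ∀ m : M, (∀ a : M, a * m = m * a ↔ a * (sr 0, sr 1) = (sr 0, sr 1) * a) →
    Adj (sr 0, sr 0) m := by decide +kernel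

theorem m4 : Pp (sr 0, sr 0) := by decide +kernel

theorem m5 : ∀ m : M, m = 1 ∨ ∃ g : M, ∃ x : M, (x = m ∨ x = g * m * g⁻¹ * m⁻¹) ∧
    (x = (r 2, 1) ∨ x = (1, r 2) ∨ x = (r 2, r 2)) := by decide +kernel

theorem m6 : ∀ m : M, (sr 0, sr 0) * m * (1, sr 1) ≠ (1, sr 1) * ((sr 0, sr 0) * m) → Pp m →
    ∃ j : M, j * m * j⁻¹ = (sr 0, sr 1) ∨ j * m * j⁻¹ = (sr 1, sr 1) := by decide +kernel

theorem m7 : ∀ j : M, (sr 0, sr 0) * (j * (sr 0, sr 0) * j⁻¹) = j * (sr 0, sr 0) * j⁻¹ * (sr 0, sr 0) := by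
  decide +kernel

theorem m8 : Fintype.card {a : M // a * (sr 0, sr 0) = (sr 0, sr 0) * a} =
    Fintype.card {a : M // a * (sr 0, sr 1) = (sr 0, sr 1) * a} := by decide +kernel

theorem tri {m m' m'' : M} (h : Pp m) (h' : Pp m') (h'' : Pp m'') :
    Adj m m'' ↔ ¬ (Adj m m' ↔ Adj m' m'') := by
  obtain ⟨i, j, rfl⟩ := m1 m h
  obtain ⟨i', j', rfl⟩ := m1 m' h'
  obtain ⟨i'', j'', rfl⟩ := m1 m'' h''
  simp only [m2]
  omega

variable {G : Type*} [Group G] [Finite G]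

def PJ (J : Subgroup G) (y : G) : Prop := y ∈ J ∧ ∀ a ∈ J, a * y = y * a → a * a = 1

def AJ (J : Subgroup G) (y y' : G) : Prop :=
  y * y' ≠ y' * y ∧ ∃ a ∈ J, a * y = y * a ∧ a * y' = y' * a ∧ ∃ b ∈ J, a * b ≠ b * a

theorem cj_comm (n x y : G) :
    n * x * n⁻¹ * (n * y * n⁻¹) = n * y * n⁻¹ * (n * x * n⁻¹) ↔ x * y = y * x := by
  rw [conj_mul, conj_mul]; simp

theorem PJ.conj {J : Subgroup G} {y n : G} (h : PJ J y) (hn : n ∈ 𝒩(J)) : PJ J (n * y * n⁻¹) :=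
  ⟨cm hn h.1, fun a ha e => by
    have h1 := h.2 _ (cm' hn ha) ((cj_comm n _ _).1 (by simpa [mul_assoc] using e))
    rwa [show n⁻¹ * a * n * (n⁻¹ * a * n) = n⁻¹ * (a * a) * n⁻¹⁻¹ by group, conj_eq_one_iff] at h1⟩

theorem AJ.conj {J : Subgroup G} {y y' n : G} (h : AJ J y y') (hn : n ∈ 𝒩(J)) :
    AJ J (n * y * n⁻¹) (n * y' * n⁻¹) := by
  obtain ⟨h1, a, ha, h2, h3, b, hb, h4⟩ := h
  exact ⟨mt (cj_comm n _ _).1 h1, _, cm hn ha, (cj_comm n _ _).2 h2, (cj_comm n _ _).2 h3, _, cm hn hb,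
    mt (cj_comm n _ _).1 h4⟩

variable {φ : M →* G} (hφ : Function.Injective φ)
include hφ

theorem pj_iff {m : M} : PJ φ.range (φ m) ↔ Pp m := by
  simp only [PJ, Pp, MonoidHom.mem_range, exists_apply_eq_apply, true_and, forall_exists_index,
    forall_apply_eq_imp_iff, ← map_mul, hφ.eq_iff, map_eq_one_iff φ hφ]

theorem aj_iff {m m' : M} : AJ φ.range (φ m) (φ m') ↔ Adj m m' := by
  simp only [AJ, Adj, MonoidHom.mem_range, exists_exists_eq_and, ← map_mul, ne_eq, hφ.eq_iff]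

theorem triJ {y y' y'' : G} (h : PJ φ.range y) (h' : PJ φ.range y') (h'' : PJ φ.range y'') :
    AJ φ.range y y'' ↔ ¬ (AJ φ.range y y' ↔ AJ φ.range y' y'') := by
  obtain ⟨m, rfl⟩ := h.1
  obtain ⟨m', rfl⟩ := h'.1
  obtain ⟨m'', rfl⟩ := h''.1
  simp only [aj_iff hφ]
  exact tri ((pj_iff hφ).1 h) ((pj_iff hφ).1 h') ((pj_iff hφ).1 h'')

/-- an element moving `C(u u')` to `C(u b')` has even order modulo `J` -/
theorem par {n : G} (hn : n ∈ 𝒩(φ.range))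
    (h : cj n (φ.range ⊓ 𝒞[φ (sr 0, sr 0)]) = φ.range ⊓ 𝒞[φ (sr 0, sr 1)]) (k : ℕ) :
    n * (n * n) ^ k ∉ φ.range := by
  have p0 : PJ φ.range (φ (sr 0, sr 0)) := (pj_iff hφ).2 m4
  have a0 : AJ φ.range (φ (sr 0, sr 0)) (n * φ (sr 0, sr 0) * n⁻¹) := by
    rw [cj_inf, cj_eq_of_mem_norm hn, cj_cent1] at h
    obtain ⟨m, hm⟩ := (p0.conj hn).1
    rw [← hm] at h ⊢
    refine (aj_iff hφ).2 (m3 m fun a => ?_)
    have := SetLike.ext_iff.1 h (φ a)
    simpa only [mem_inf, MonoidHom.mem_range, exists_apply_eq_apply, true_and, mem_cent1, ← map_mul,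
      hφ.eq_iff] using this
  have key : ∀ i : ℕ, AJ φ.range (φ (sr 0, sr 0)) (n ^ i * φ (sr 0, sr 0) * (n ^ i)⁻¹) ↔ i % 2 = 1 := by
    intro i
    induction i with
    | zero => simp [AJ]
    | succ i ih =>
      have h1 := a0.conj (pow_mem hn i)
      rw [show n ^ i * (n * φ (sr 0, sr 0) * n⁻¹) * (n ^ i)⁻¹ =
        n ^ (i + 1) * φ (sr 0, sr 0) * (n ^ (i + 1))⁻¹ by rw [pow_succ]; group] at h1
      rw [triJ hφ p0 (p0.conj (pow_mem hn i)) (p0.conj (pow_mem hn (i + 1))), ih]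
      simp only [h1, iff_true]
      omega
  rintro ⟨j, hj⟩
  have h1 := (key (2 * k + 1)).2 (by omega)
  rw [pow_succ', pow_mul, pow_two, ← hj] at h1
  refine h1.1 ?_
  rw [← map_inv, ← map_mul, ← map_mul, ← map_mul, ← map_mul, m7]

theorem card_c (m : M) :
    Nat.card ↥(φ.range ⊓ 𝒞[φ m]) = Fintype.card {a : M // a * m = m * a} := by
  rw [← Nat.card_eq_fintype_card]
  refine (Nat.card_eq_of_bijective (fun a : {a : M // a * m = m * a} => (⟨φ a.1, ⟨_, rfl⟩,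
    mem_cent1.2 (by rw [← map_mul, a.2, map_mul])⟩ : ↥(φ.range ⊓ 𝒞[φ m]))) ⟨fun a b e =>
      Subtype.ext (hφ (congrArg Subtype.val e)), ?_⟩).symm
  rintro ⟨_, ⟨a, rfl⟩, h⟩
  exact ⟨⟨a, hφ (by rw [map_mul, map_mul]; exact mem_cent1.1 h)⟩, rfl⟩

omit hφ in
/-- the homomorphism from `D₈ × D₈` -/
theorem exists_hom {t u b : G} (tt : t * t = 1) (uu : u * u = 1) (bb : b * b = 1) (h4 : (u * b) ^ 4 = 1)
    (c1 : Commute u (t * u * t⁻¹)) (c2 : Commute u (t * b * t⁻¹)) (c3 : Commute b (t * b * t⁻¹))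
    (n1 : (u * b) ^ 2 ≠ 1) (n2 : (u * b) ^ 2 * (t * (u * b) ^ 2 * t⁻¹) ≠ 1) {J : Subgroup G}
    (hu : u ∈ J) (hb : b ∈ J) (ht : t ∈ 𝒩(J)) (hJ : Nat.card J = 64) :
    ∃ φ : M →* G, Function.Injective φ ∧ φ.range = J ∧ φ (sr 0, 1) = u ∧ φ (sr 1, 1) = b ∧
      φ (1, sr 0) = t * u * t⁻¹ ∧ φ (1, sr 1) = t * b * t⁻¹ := by
  obtain ⟨ψ, h1, h2, h3⟩ := H40.exists_dihedral_hom uu bb h4
  have c4 : Commute b (t * u * t⁻¹) := by
    have := (cj_comm t _ _).2 c2.eq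
    rw [show t * (t * b * t⁻¹) * t⁻¹ = (t * t) * b * (t * t)⁻¹ by group, tt, one_mul, inv_one,
      mul_one] at this
    exact this.symm
  have hc : ∀ x y, Commute (ψ x) (((MulAut.conj t).toMonoidHom.comp ψ) y) := fun x y => by
    have a1 : ψ.range ≤ 𝒞(cj t ψ.range) := by
      rw [h1, cj, MonoidHom.map_closure, closure_le]
      intro x hx
      refine cent_comm.1 ((closure_le _).2 ?_) (mem_zpowers x)
      rw [cent_zpowers]
      rintro _ ⟨y, hy, rfl⟩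
      rcases hx with rfl | rfl <;> rcases hy with rfl | rfl
      · exact mem_cent1.2 c1.eq.symm
      · exact mem_cent1.2 c2.eq.symm
      · exact mem_cent1.2 c4.eq.symm
      · exact mem_cent1.2 c3.eq.symm
    exact (a1 ⟨x, rfl⟩ _ (conj_mem_cj.2 ⟨y, rfl⟩)).symm
  let φ : M →* G := ψ.noncommCoprod _ hc
  have hφ : ∀ x y, φ (x, y) = ψ x * (t * ψ y * t⁻¹) := fun x y => rfl
  have e0 : ψ (sr 0) = u := by simpa using h3 0
  have e1 : ψ (sr 1) = b := by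
    have := h3 1
    rwa [zpow_one, ← mul_assoc, uu, one_mul] at this
  have e2 : ψ (r 2) = (u * b) ^ 2 := by
    have := h2 2
    rwa [zpow_two, ← pow_two] at this
  have inj : Function.Injective φ := by
    refine (injective_iff_map_eq_one φ).2 fun m hm => ?_
    refine (m5 m).resolve_right ?_
    rintro ⟨g, x, a1, a2⟩
    have a3 : φ x = 1 := by
      rcases a1 with rfl | rfl
      · exact hm
      · simp [hm]
    rcases a2 with rfl | rfl | rfl <;> rw [hφ] at a3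
    · exact n1 (by simpa [e2] using a3)
    · exact n1 (by simpa [e2] using a3)
    · exact n2 (by rwa [e2] at a3)
  have hle : ψ.range ≤ J := by
    rw [h1, closure_le]
    rintro x (rfl | rfl)
    · exact hu
    · exact hb
  refine ⟨φ, inj, eq_of_le_of_card_ge ?_ ?_, by simp [hφ, e0], by simp [hφ, e1], by simp [hφ, e0],
    by simp [hφ, e1]⟩
  · rintro _ ⟨⟨x, y⟩, rfl⟩
    rw [hφ]
    exact mul_mem (hle ⟨x, rfl⟩) (cm ht (hle ⟨y, rfl⟩))
  · rw [hJ, ← Nat.card_congr (MonoidHom.ofInjective inj).toEquiv, Nat.card_prod, DihedralGroup.nat_card]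

end DD

end Cfsg.Agent.L2S
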