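import Cfsg.Agent.L2S.Defs

set_option autoImplicit false
set_option linter.unusedSectionVars false

namespace Cfsg.Agent.L2S

open Cfsg Subgroup H49
open H42 (SylIn exists_sylIn)
open TL2 (cm cm' mn mem_sup_t p2_zpowers p2_sup)

variable {G F : Type*} [Group G] [Finite G] [Field F] [Fintype F] [CharP F 2]

omit [Finite G] in
theorem Jor_comm {W : Subgroup G} (sq : ∀ w ∈ W, w * w = 1) {a b : G} (ha : a ∈ W) (hb : b ∈ W) :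
    a * b = b * a := by
  rw [← inv_eq_of_mul_eq_one_right (sq _ (mul_mem ha hb)), mul_inv_rev, inv_eq_of_mul_eq_one_right (sq a ha),
    inv_eq_of_mul_eq_one_right (sq b hb)]

/-- the image of `w ↦ x w x⁻¹ w` -/
theorem Jor_im {W : Subgroup G} (sq : ∀ w ∈ W, w * w = 1) {x : G} (hx : x ∈ 𝒩(W)) :
    ∃ R : Subgroup G, (∀ w, w ∈ R ↔ ∃ u ∈ W, w = x * u * x⁻¹ * u) ∧
      Nat.card R * Nat.card (W ⊓ 𝒞[x] : Subgroup G) = Nat.card W := by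
  let δ : W →* G := MonoidHom.mk' (fun w => x * w * x⁻¹ * w) fun a b => by
    have := Jor_comm sq a.2 (cm hx b.2)
    change x * (a * b) * x⁻¹ * (a * b) = x * a * x⁻¹ * a * (x * b * x⁻¹ * b)
    calc x * (a * b) * x⁻¹ * (a * b) = x * a * x⁻¹ * ((x * b * x⁻¹) * a) * b := by group
      _ = _ := by rw [← this]; group
  refine ⟨δ.range, fun w => ⟨fun ⟨u, e⟩ => ⟨u, u.2, e.symm⟩, fun ⟨u, hu, e⟩ => ⟨⟨u, hu⟩, e.symm⟩⟩, ?_⟩
  have e : δ.ker = (W ⊓ 𝒞[x]).subgroupOf W := by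
    ext w
    rw [MonoidHom.mem_ker, mem_subgroupOf, mem_inf, mem_cent1, and_iff_right w.2]
    change x * w * x⁻¹ * w = 1 ↔ _
    rw [mul_eq_one_iff_eq_inv, inv_eq_of_mul_eq_one_right (sq _ w.2), mul_inv_eq_iff_eq_mul, eq_comm]
  rw [← index_ker, ← Nat.card_congr (subgroupOfEquivOfLe (inf_le_left : W ⊓ 𝒞[x] ≤ W)).toEquiv, ← e,
    index_mul_card]

omit [Finite G] in
theorem Jor_mem {W : Subgroup G} (sq : ∀ w ∈ W, w * w = 1) {x : G} (hx : x ∈ 𝒩(W)) (h : x * x ∈ 𝒞(W)) {u : G}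
    (hu : u ∈ W) : x * u * x⁻¹ * u ∈ W ⊓ 𝒞[x] := by
  refine ⟨mul_mem ((mem_normalizer_iff.1 hx u).1 hu) hu, mem_cent1.2 ?_⟩
  have h1 := Jor_comm sq hu ((mem_normalizer_iff.1 hx u).1 hu)
  have h2 := mem_centralizer_iff.1 h u hu
  calc x * u * x⁻¹ * u * x = u * (x * u * x⁻¹) * x := by rw [h1]
    _ = u * (x * x) * (x⁻¹ * u) := by group
    _ = _ := by rw [h2]; group

theorem card_le_sq {W : Subgroup G} (sq : ∀ w ∈ W, w * w = 1) {x : G} (hx : x ∈ 𝒩(W))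
    (h : x * x ∈ 𝒞(W)) : Nat.card W ≤ Nat.card (W ⊓ 𝒞[x] : Subgroup G) ^ 2 := by
  obtain ⟨R, h1, h2⟩ := Jor_im sq hx
  rw [← h2, pow_two]
  refine Nat.mul_le_mul_right _ (card_le_of_le fun w hw => ?_)
  obtain ⟨u, hu, rfl⟩ := (h1 w).1 hw
  exact Jor_mem sq hx h hu

theorem free_of_card {W : Subgroup G} (sq : ∀ w ∈ W, w * w = 1) {x : G} (hx : x ∈ 𝒩(W))
    (h : x * x ∈ 𝒞(W)) (h2 : Nat.card (W ⊓ 𝒞[x] : Subgroup G) ^ 2 = Nat.card W) {w : G}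
    (hw : w ∈ W) (e : w * x = x * w) : ∃ u ∈ W, w = x * u * x⁻¹ * u := by
  obtain ⟨R, h1, h3⟩ := Jor_im sq hx
  rw [← h2, pow_two] at h3
  have h4 : R = W ⊓ 𝒞[x] := eq_of_le_of_card_ge (fun w hw => by
    obtain ⟨u, hu, rfl⟩ := (h1 w).1 hw
    exact Jor_mem sq hx h hu) (Nat.eq_of_mul_eq_mul_right Nat.card_pos h3).ge
  exact (h1 w).1 (h4 ▸ ⟨hw, mem_cent1.2 e⟩)

theorem Jor_card {W : Subgroup G} (sq : ∀ w ∈ W, w * w = 1) {x : G} (hx : x ∈ 𝒩(W)) (h : x * x ∈ 𝒞(W))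
    (h2 : ∀ w ∈ W, w * x = x * w → ∃ u ∈ W, w = x * u * x⁻¹ * u) :
    Nat.card (W ⊓ 𝒞[x] : Subgroup G) ^ 2 = Nat.card W := by
  obtain ⟨R, h1, h3⟩ := Jor_im sq hx
  have h4 : R = W ⊓ 𝒞[x] := le_antisymm (fun w hw => by
    obtain ⟨u, hu, rfl⟩ := (h1 w).1 hw
    exact Jor_mem sq hx h hu) fun w hw => (h1 w).2 (h2 w hw.1 (mem_cent1.1 hw.2))
  rw [← h3, h4, pow_two]

/-- Jordan blocks -/
theorem jor {W : Subgroup G} (sq : ∀ w ∈ W, w * w = 1) {y : G} (hy : y ∈ 𝒩(W)) (i : ℕ)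
    (h1 : y ^ 2 ^ (i + 1) ∈ 𝒞(W)) (h2 : Nat.card (W ⊓ 𝒞[y ^ 2 ^ i] : Subgroup G) ^ 2 = Nat.card W) :
    Nat.card (W ⊓ 𝒞[y] : Subgroup G) ^ 2 ^ (i + 1) = Nat.card W := by
  induction i generalizing W with
  | zero => simpa using h2
  | succ i ih =>
    have e : ∀ n : ℕ, y ^ 2 ^ (n + 1) = y ^ 2 ^ n * y ^ 2 ^ n := fun n => by rw [pow_succ, pow_mul, pow_two]
    have cy : ∀ n m : ℕ, y ^ n ∈ 𝒩(W ⊓ 𝒞[y ^ m]) := fun n m => mn fun w hw =>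
      have a : y ^ n ∈ 𝒞[y ^ m] := mem_cent1.2 (Commute.pow_pow_self y n m)
      mem_inf.2 ⟨cm (pow_mem hy n) hw.1, mul_mem (mul_mem a (mem_inf.1 hw).2) (inv_mem a)⟩
    have c1 : y ^ 2 ^ (i + 1) ∈ 𝒞(W ⊓ 𝒞[y ^ 2 ^ (i + 1)]) :=
      mem_centralizer_iff.2 fun w hw => mem_cent1.1 hw.2
    have sq1 : ∀ w ∈ W ⊓ 𝒞[y ^ 2 ^ (i + 1)], w * w = 1 := fun w hw => sq w hw.1
    have h3 := ih sq1 (by simpa using cy 1 (2 ^ (i + 1))) c1 (Jor_card sq1 (cy _ _) (e i ▸ c1) fun w hw hc => by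
      obtain ⟨u, hu, rfl⟩ := free_of_card sq (pow_mem hy _) (e (i + 1) ▸ h1) h2 hw.1 (mem_cent1.1 hw.2)
      have hx : y ^ 2 ^ i ∈ 𝒩(W) := pow_mem hy _
      rw [e i] at hc ⊢
      generalize y ^ 2 ^ i = x at hc hx ⊢
      have hb := cm hx hu
      have hd := cm hx hb
      have sb := sq _ hb
      refine ⟨x * u * x⁻¹ * u, ⟨mul_mem hb hu, mem_cent1.2 ?_⟩, ?_⟩
      · have k1 : x * (x * (x * u * x⁻¹) * x⁻¹) * x⁻¹ * (x * u * x⁻¹) = x * (x * u * x⁻¹) * x⁻¹ * u := by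
          calc _ = x * (x * x * u * (x * x)⁻¹ * u) * x⁻¹ := by group
            _ = _ := by rw [← hc]; group
        have k2 : x * x * (x * u * x⁻¹ * u) * (x * x)⁻¹ = x * u * x⁻¹ * u := by
          calc _ = x * (x * (x * u * x⁻¹) * x⁻¹) * x⁻¹ * (x * u * x⁻¹ * (x * u * x⁻¹)) *
                (x * (x * u * x⁻¹) * x⁻¹) := by rw [sb]; group
            _ = x * (x * u * x⁻¹) * x⁻¹ * (u * (x * u * x⁻¹) * (x * (x * u * x⁻¹) * x⁻¹)) := by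
                rw [← mul_assoc _ (x * u * x⁻¹), k1]; group
            _ = _ := by
                rw [Jor_comm sq (mul_mem hu hb) hd, ← mul_assoc, sq _ hd, one_mul, Jor_comm sq hu hb]
        rw [mul_inv_eq_iff_eq_mul] at k2
        exact k2.symm
      · calc _ = x * (x * u * x⁻¹) * x⁻¹ * (x * u * x⁻¹ * (x * u * x⁻¹)) * u := by rw [sb]; group
          _ = _ := by group)
    have h4 : W ⊓ 𝒞[y ^ 2 ^ (i + 1)] ⊓ 𝒞[y] = W ⊓ 𝒞[y] := le_antisymm (inf_le_inf_right _ inf_le_left)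
      fun w hw => ⟨⟨hw.1, mem_cent1.2 (Commute.pow_right (mem_cent1.1 hw.2) _)⟩, hw.2⟩
    rw [h4] at h3
    rw [pow_succ 2 (i + 1), pow_mul, h3, h2]

end Cfsg.Agent.L2S
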