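import Cfsg.Agent.L2S.Defs
import Cfsg.Agent.H8.SL2Even
import Cfsg.Agent.H8.OddCore
import Cfsg.Agent.S0215

set_option autoImplicit false
set_option linter.unusedSectionVars false

namespace Cfsg.Agent.L2S

open Cfsg Subgroup H49
open H42 (SylIn exists_sylIn)
open TL2 (cm cm' mn mem_sup_t p2_zpowers p2_sup)

variable {G F : Type*} [Group G] [Finite G] [Field F] [Fintype F] [CharP F 2]

namespace Ctx0

variable (c : Ctx0 G F)

theorem z_sq (b : F) : c.z b * c.z b = 1 := by rw [← z_add, CharTwo.add_self_eq_zero, z_zero]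
theorem sqV {v : G} (hv : v ∈ c.V) : v * v = 1 := by
  obtain ⟨b, rfl⟩ := hv
  exact c.z_sq b
theorem commV {v w : G} (hv : v ∈ c.V) (hw : w ∈ c.V) : v * w = w * v := by
  obtain ⟨b, rfl⟩ := hv
  obtain ⟨d, rfl⟩ := hw
  exact c.z_comm b d
theorem cardV : Nat.card c.V = 2 ^ c.a := by
  rw [← c.card]
  exact (Nat.card_congr (Equiv.ofBijective (fun b => (⟨c.z b, c.z_mem b⟩ : c.V))
    ⟨fun _ _ e => c.z_injective (congrArg Subtype.val e), fun ⟨_, b, e⟩ => ⟨b, Subtype.ext e.symm⟩⟩)).symm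
theorem p2V : IsPGroup 2 c.V := IsPGroup.of_card c.cardV
theorem Base1_ord : orderOf (c.l ^ 2) = 2 ^ c.a - 1 := by
  rw [← c.card, ← Nat.card_units]
  refine orderOf_eq_card_of_forall_mem_powers fun u => ?_
  obtain ⟨i, hi⟩ := c.gen u u.ne_zero
  exact ⟨i, Units.ext (by simpa using hi)⟩
theorem mu_prim : IsPrimitiveRoot c.μ (2 ^ c.a - 1) := by
  have := IsPrimitiveRoot.coe_units_iff.2 (IsPrimitiveRoot.orderOf (c.l ^ 2))
  rwa [c.Base1_ord, Units.val_pow_eq_pow_val] at this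
theorem ord_h : orderOf c.h = 2 ^ c.a - 1 := by
  rw [h, orderOf_injective _ c.inj, orderOf_injective _ H9.diagHom_injective]
  refine Nat.dvd_antisymm ?_ (c.Base1_ord ▸ orderOf_pow_dvd 2)
  rw [← c.card, ← Nat.card_units]
  exact orderOf_dvd_natCard _
theorem Base1_four : 4 ≤ 2 ^ c.a := Nat.pow_le_pow_right two_pos c.ha
theorem Base1_mu : c.μ ≠ 1 := c.mu_prim.ne_one (by have := c.Base1_four; omega)
theorem Base1_hz {b : F} (e : c.h * c.z b = c.z b * c.h) : b = 0 := by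
  have := c.h_z b
  rw [e, mul_inv_cancel_right, z_inj] at this
  by_contra b0
  exact c.Base1_mu ((mul_eq_right₀ b0).1 this.symm)
theorem A_simple : IsSimpleGroup c.A :=
  have := H8.sl2e_simple (K := F) CharTwo.two_eq_zero (c.card ▸ c.Base1_four)
  (MonoidHom.ofInjective c.inj).symm.isSimpleGroup
theorem A_ncomm : ¬ IsMulCommutative c.A := fun h =>
  one_ne_zero (c.Base1_hz (congrArg Subtype.val (h.1.1 ⟨_, c.h_mem_A⟩ ⟨_, c.z_mem_A 1⟩)))
theorem E_ncomm : ¬ IsMulCommutative c.E := fun h =>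
  one_ne_zero (c.Base1_hz (congrArg Subtype.val (h.1.1 ⟨_, c.h_mem_E⟩ ⟨_, c.V_le_E (c.z_mem 1)⟩)))
theorem t_notMem_V : c.t ∉ c.V := fun ⟨b, e⟩ =>
  c.t1 (by rw [e, c.Base1_hz (b := b) (e ▸ c.th.symm), z_zero])
theorem cent_z {x : G} (hx : x ∈ c.A) {b : F} (hb : b ≠ 0) (e : x * c.z b = c.z b * x) :
    x ∈ c.V := by
  obtain ⟨m, rfl⟩ := hx
  rw [z, ← map_mul, ← map_mul] at e
  have e' := c.inj e
  have h0 := congrArg (fun g => g.1 0 0) e'
  have h1 := congrArg (fun g => g.1 0 1) e'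
  simp only [H66.sl2_mul_apply, H66.coe_upT] at h0 h1
  simp [hb] at h0 h1
  have hd := m.2
  rw [Matrix.det_fin_two, h0, mul_zero, sub_zero] at hd
  have h2 : m.1 0 0 = m.1 1 1 := mul_right_cancel₀ hb (by linear_combination h1)
  have h3 : m.1 1 1 = 1 := by
    rw [h2] at hd
    have : (m.1 1 1 + 1) ^ 2 = 0 := by
      rw [CharTwo.add_sq, one_pow, pow_two, hd, CharTwo.add_self_eq_zero]
    exact CharTwo.add_eq_zero.1 (pow_eq_zero_iff two_ne_zero |>.1 this)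
  refine ⟨m.1 0 1, congrArg c.φ (H66.sl2_ext ?_ ?_ ?_ ?_)⟩ <;> simp [H66.coe_upT, h0, h2, h3]
theorem t_notMem_A : c.t ∉ c.A := fun h => c.t_notMem_V (c.cent_z h one_ne_zero (c.tz 1))
theorem t_mem_T : c.t ∈ c.T := by
  have h1 : zpowers c.t ≤ 𝒩(c.T) := zpowers_le.2 (mn fun x hx => by
    rw [← c.Tt hx, mul_inv_cancel_right]; exact hx)
  rw [← c.syl.eq_of_le (p2_sup c.syl.isP (p2_zpowers c.tt) h1)
    (sup_le c.T_le (zpowers_le.2 (mem_cent1.2 rfl))) le_sup_left]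
  exact mem_sup_right (mem_zpowers _)
theorem CNA {g : G} (h : g * c.t = c.t * g) : g ∈ 𝒩(c.A) := c.CN (mem_cent1.2 h)
theorem TI {g : G} (hg : g ∈ 𝒩(c.A)) {b : F} (hb : b ≠ 0) (e : g * c.z b * g⁻¹ ∈ c.V) :
    g ∈ 𝒩(c.V) := by
  obtain ⟨d, hd⟩ := e
  refine mn fun v hv => c.cent_z (cm hg (c.V_le_A hv)) (b := d) (fun d0 => hb ?_) ?_
  · rw [d0, z_zero, mul_inv_eq_one, mul_eq_left, z_eq_one] at hd
    exact hd
  · rw [← hd, conj_mul, conj_mul, c.commV hv (c.z_mem b)]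
theorem AT {x : G} (hx : x ∈ c.A) (hT : x ∈ c.T) : x ∈ c.V := c.cent_z hx one_ne_zero (c.Tz hT)
theorem sylV : SylIn 2 c.V c.A := by
  refine ⟨c.V_le_A, c.p2V, ?_⟩
  have h1 := H42.card_mul_relIndex c.V_le_A
  have h2 : Nat.card c.A = _ := (Nat.card_congr (MonoidHom.ofInjective c.inj).toEquiv).symm
  rw [h2, H8.sl2e_card, c.cardV, c.card] at h1
  rw [Nat.eq_of_mul_eq_mul_left (by positivity) h1, ← even_iff_two_dvd, Nat.not_even_iff_odd]
  have := c.ha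
  exact Nat.Even.sub_odd (Nat.one_le_pow _ _ (by positivity))
    ((even_two.pow_of_ne_zero (by omega)).pow_of_ne_zero two_ne_zero) odd_one
theorem inv_A {x : G} (hx : x ∈ c.A) (x2 : x * x = 1) (x1 : x ≠ 1) :
    ∃ y ∈ c.A, y * x * y⁻¹ = c.z 1 := by
  obtain ⟨g, hg, h⟩ := c.sylV.exists_conj (p2_zpowers x2) (zpowers_le.2 hx)
  obtain ⟨b, hb⟩ := h x (mem_zpowers x)
  have b0 : b ≠ 0 := fun e => x1 (by rwa [e, z_zero, mul_inv_eq_one, mul_eq_left] at hb)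
  obtain ⟨i, hi⟩ := c.gen' (inv_ne_zero b0)
  refine ⟨c.h ^ i * g, mul_mem (pow_mem c.h_mem_A i) hg, ?_⟩
  rw [← inv_mul_cancel₀ b0, ← hi, ← h_pow_z, ← hb]
  group
theorem NAV {x : G} (hx : x ∈ c.A) (hV : x ∈ 𝒩(c.V)) : ∃ (i : ℕ) (b : F), x = c.h ^ i * c.z b := by
  obtain ⟨d, hd⟩ := cm hV (c.z_mem 1)
  have d0 : d ≠ 0 := fun e => one_ne_zero (by
    rwa [e, z_zero, mul_inv_eq_one, mul_eq_left, z_eq_one] at hd)
  obtain ⟨i, hi⟩ := c.gen' d0
  have h1 := c.h_pow_z i 1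
  rw [mul_one, hi, ← hd] at h1
  obtain ⟨b, hb⟩ := c.cent_z (mul_mem (inv_mem (pow_mem c.h_mem_A i)) hx) one_ne_zero (by
    calc (c.h ^ i)⁻¹ * x * c.z 1 = (c.h ^ i)⁻¹ * (x * c.z 1 * x⁻¹) * x := by group
      _ = _ := by rw [← h1]; group)
  exact ⟨i, b, by rw [← hb, mul_inv_cancel_left]⟩
theorem T_le_NV : c.T ≤ 𝒩(c.V) := fun x hx => c.TI (c.CNA (c.Tt hx)) one_ne_zero (by
  rw [c.Tz hx, mul_inv_cancel_right]; exact c.z_mem 1)
theorem T_le_N1 : c.T ≤ c.N1 := le_inf c.T_le c.T_le_NV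
theorem E_le_comm : c.E ≤ ⁅c.E, c.E⁆ := by
  have := c.En
  have := c.Es
  rcases (inferInstance : ((⁅c.E, c.E⁆ : Subgroup G).subgroupOf c.E).Normal).eq_bot_or_eq_top with h | h
  · refine absurd ⟨⟨fun x y => ?_⟩⟩ c.E_ncomm
    have : x * y * x⁻¹ * y⁻¹ ∈ (⁅c.E, c.E⁆ : Subgroup G).subgroupOf c.E :=
      commutator_mem_commutator x.2 y.2
    rwa [h, mem_bot, mul_inv_eq_one, mul_inv_eq_iff_eq_mul] at this
  · exact subgroupOf_eq_top.1 h
theorem E_le_two {M : Subgroup G} (h : M.index = 2) : c.E ≤ M :=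
  c.E_le_comm.trans (commutator_le.2 fun x _ y _ => by
    simp only [commutatorElement_def, mul_mem_iff_of_index_two h, inv_mem_iff]
    tauto)
theorem notMem_E_of_out {x : G} (h : TL2.Out x) : x ∉ c.E := fun hx =>
  let ⟨_, h1, h2⟩ := h
  h2 (c.E_le_two h1 hx)
/-- Glauberman's `Z*`-theorem -/
theorem exists_conj_ne {S : Subgroup G} (hS : SylIn 2 S ⊤) (ht : c.t ∈ S) :
    ∃ g : G, g * c.t * g⁻¹ ∈ S ∧ g * c.t * g⁻¹ ≠ c.t := by
  by_contra! hi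
  obtain ⟨N, hN, hodd, h⟩ := S0215.result (hS.isP.toSylow (relIndex_top_right S ▸ hS.ndvd)) c.t
    (orderOf_eq_prime (by rw [pow_two, c.tt]) c.t1) ht hi
  have hb := H8.le_pPrimeCore_two hN hodd
  refine c.nA ⟨fun x hx g => cm (c.CNA ?_) hx⟩
  have := hb (h g)
  rw [show pPrimeCore 2 G = ⊥ from c.hO, mem_bot, mul_inv_eq_one, mul_inv_eq_iff_eq_mul] at this
  exact this.symm

end Ctx0

end Cfsg.Agent.L2S
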