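import Cfsg.Agent.L2S.Defs
import Cfsg.Agent.S1241

set_option autoImplicit false
set_option linter.unusedSectionVars false

namespace Cfsg.Agent.L2S

open Cfsg Subgroup H49
open H42 (SylIn exists_sylIn)
open TL2 (cm cm' mn mem_sup_t p2_zpowers p2_sup)

variable {G F : Type*} [Group G] [Finite G] [Field F] [Fintype F] [CharP F 2]

/-- transfer into `S / Q` -/
theorem tr_out {H S Q : Subgroup G} (hS : SylIn 2 S H) (hQ : Q ≤ S)
    (hc : ∀ x ∈ S, ∀ y ∈ S, x * y * x⁻¹ * y⁻¹ ∈ Q) {u : G} (hu : u ∈ S) (u2 : u * u = 1)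
    (uQ : u ∉ Q) (h : ∀ g ∈ H, g * u * g⁻¹ ∈ S → u * (g * u * g⁻¹) ∈ Q) : u ∉ ⁅H, H⁆ := by
  have hn : ∀ x ∈ S, ∀ q ∈ Q, x * q * x⁻¹ ∈ Q := fun x hx q hq => by
    simpa using mul_mem (hc x hx q (hQ hq)) hq
  have u2' : (⟨u, hS.le hu⟩ : H) ^ 2 = 1 := Subtype.ext (by rw [pow_two]; exact u2)
  have key := S1241.result (p := 2) (S.subgroupOf H) (Q.subgroupOf H) (fun x hx => hQ hx)
    ⟨fun q hq x => hn _ x.2 _ hq⟩ (fun x hx y hy => hc _ hx _ hy)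
    ((Nat.Prime.coprime_iff_not_dvd Nat.prime_two).2 hS.ndvd) ⟨u, hS.le hu⟩ hu uQ
    (by
      obtain ⟨k, -, hk⟩ := (Nat.dvd_prime_pow Nat.prime_two (m := 1)).1 (orderOf_dvd_of_pow_eq_one u2')
      exact ⟨k, hk⟩) fun m a ha => by
      obtain ⟨k, rfl | rfl⟩ := m.even_or_odd'
      · rw [zpow_mul, zpow_ofNat, u2', one_zpow]
        simp
      · rw [zpow_add, zpow_mul, zpow_ofNat, u2', one_zpow, one_mul, zpow_one] at ha ⊢
        have := hn _ (S.inv_mem hu) _ (h a a.2 ha)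
        rw [inv_mul_cancel_left, inv_inv] at this
        rw [mem_subgroupOf]
        change (a : G) * u * (a : G)⁻¹ * u⁻¹ ∈ Q
        rwa [inv_eq_of_mul_eq_one_right u2]
  intro hH
  rw [← map_subtype_commutator] at hH
  obtain ⟨x, hx, e⟩ := hH
  exact key ((Subtype.ext e : x = ⟨u, hS.le hu⟩) ▸ hx)

/-- an extremal conjugate -/
theorem exists_extremal {H S : Subgroup G} (hS : SylIn 2 S H) {x : G} (hx : x ∈ S) :
    ∃ k ∈ H, k * x * k⁻¹ ∈ S ∧ SylIn 2 (S ⊓ 𝒞[k * x * k⁻¹] : Subgroup G) (H ⊓ 𝒞[k * x * k⁻¹] : Subgroup G) ∧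
      ∀ y ∈ S, y * x = x * y → k * y * k⁻¹ ∈ S := by
  obtain ⟨R, hR, hle⟩ := exists_sylIn (p := 2) (R := S ⊓ 𝒞[x]) (H := H ⊓ 𝒞[x]) (hS.isP.to_le inf_le_left)
    (inf_le_inf_right _ hS.le)
  obtain ⟨k, hk, h1⟩ := hS.exists_conj hR.isP (hR.le.trans inf_le_left)
  refine ⟨k, hk, h1 x (hle ⟨hx, mem_cent1.2 rfl⟩), ?_, fun y hy e => h1 y (hle ⟨hy, mem_cent1.2 e⟩)⟩
  have h2 : SylIn 2 (cj k R) (cj k (H ⊓ 𝒞[x])) := hR.cj k
  rw [cj_inf, cj_cent1, cj_eq_of_mem hk] at h2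
  exact h2.of_le_of_isPGroup (le_inf (H42.cj_le_iff.2 h1) (h2.le.trans inf_le_right))
    (inf_le_inf_right _ hS.le) (hS.isP.to_le inf_le_left)

/-- Burnside: conjugate normal subsets of a Sylow subgroup are conjugate in its normalizer -/
theorem burnside {H S X : Subgroup G} (hS : SylIn 2 S H) {g : G} (hg : g ∈ H) (h1 : S ≤ 𝒩(X))
    (h2 : S ≤ 𝒩(cj g X)) : ∃ n ∈ H, n ∈ 𝒩(S) ∧ cj n X = cj g X := by
  have h3 : SylIn 2 S (H ⊓ 𝒩(cj g X)) := hS.of_le (le_inf hS.le h2) inf_le_left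
  have h4 : cj g S ≤ H ⊓ 𝒩(cj g X) := le_inf (cj_le_of_mem hS.le hg) (by
    rw [← cj_normalizer]
    exact cj_mono g h1)
  obtain ⟨k, hk, h5⟩ := h3.exists_conj (H42.isPGroup_cj g hS.isP) h4
  refine ⟨k * g, mul_mem hk.1 hg, mn fun x hx => ?_, by rw [cj_mul, cj_eq_of_mem_norm hk.2]⟩
  have := h5 _ (H42.conj_mem_cj (g := g) hx)
  simpa only [mul_assoc, mul_inv_rev] using this

end Cfsg.Agent.L2S
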