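/-
Standard subgroups of type `L₂(2^a)`: field automorphisms and matrices. See `notes/L2S.md`.
-/
import Cfsg.Agent.L2S.Defs

set_option autoImplicit false

namespace Cfsg.Agent.L2S

open scoped MatrixGroups

namespace Base1b

variable {F : Type*} [Field F]

noncomputable def galEquiv (F : Type*) [Field F] [Algebra (ZMod 2) F] :
    (F ≃ₐ[ZMod 2] F) ≃* RingAut F :=
  MulEquiv.ofBijective (MulSemiringAction.toRingAut (F ≃ₐ[ZMod 2] F) F)
    ⟨fun _ _ h => AlgEquiv.ext fun x => DFunLike.congr_fun h x, fun σ =>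
      ⟨AlgEquiv.ofRingEquiv (f := σ) fun x => DFunLike.congr_fun
        (Subsingleton.elim (σ.toRingHom.comp (algebraMap (ZMod 2) F)) (algebraMap (ZMod 2) F)) x,
        rfl⟩⟩

theorem cyc [Finite F] [CharP F 2] : IsCyclic (RingAut F) := by
  let := ZMod.algebra F 2
  exact isCyclic_of_surjective _ (galEquiv F).surjective

theorem card_aut [Fintype F] [CharP F 2] {a : ℕ} (h : Nat.card F = 2 ^ a) :
    Nat.card (RingAut F) = a := by
  let := ZMod.algebra F 2
  rw [← Nat.card_congr (galEquiv F).toEquiv, IsGalois.card_aut_eq_finrank]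
  have := Module.natCard_eq_pow_finrank (K := ZMod 2) (V := F)
  rw [h, Nat.card_zmod] at this
  exact (Nat.pow_right_injective le_rfl this).symm

theorem uniq [Fintype F] [CharP F 2] {σ τ : RingAut F} (h1 : σ ≠ 1) (h2 : τ ≠ 1)
    (s : σ * σ = 1) (t : τ * τ = 1) : σ = τ := by
  classical
  have := cyc (F := F)
  have : Finite (RingAut F) := Finite.of_injective _ DFunLike.coe_injective
  have := Fintype.ofFinite (RingAut F)
  by_contra hne
  have h := IsCyclic.card_pow_eq_one_le (α := RingAut F) (n := 2) two_pos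
  have h3 : ({1, σ, τ} : Finset (RingAut F)) ⊆ Finset.univ.filter fun a => a ^ 2 = 1 := by
    intro x hx
    simp only [Finset.mem_insert, Finset.mem_singleton] at hx
    rcases hx with rfl | rfl | rfl <;> simp [pow_two, s, t]
  have h4 := Finset.card_le_card h3
  rw [Finset.card_eq_three.2 ⟨1, σ, τ, h1.symm, h2.symm, hne, rfl⟩] at h4
  omega

theorem ex_ne {σ : RingAut F} (h : σ ≠ 1) : ∃ y, σ y ≠ y := by
  by_contra hc
  push Not at hc
  exact h (RingEquiv.ext hc)

/-- coordinates over the fixed field -/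
def crd (σ : RingAut F) (y : F) (p : {b // σ b = b} × {b // σ b = b}) : F := p.1.1 + p.2.1 * y

theorem crd_inj {σ : RingAut F} {y : F} (hy : σ y ≠ y) : Function.Injective (crd σ y) := by
  rintro ⟨⟨u, hu⟩, ⟨v, hv⟩⟩ ⟨⟨u', hu'⟩, ⟨v', hv'⟩⟩ e
  simp only [crd] at e
  have e2 := congrArg σ e
  rw [map_add, map_add, map_mul, map_mul, hu, hv, hu', hv'] at e2
  have h1 : (v - v') * (σ y - y) = 0 := by linear_combination e2 - e
  have h2 : v = v' := sub_eq_zero.1 ((mul_eq_zero.1 h1).resolve_right (sub_ne_zero.2 hy))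
  subst h2
  have h3 : u = u' := add_right_cancel e
  subst h3
  rfl

theorem tr_ne [CharP F 2] {σ : RingAut F} {y : F} (hy : σ y ≠ y) : σ y + y ≠ 0 := by
  rwa [← CharTwo.sub_eq_add, sub_ne_zero]

theorem free [CharP F 2] {σ : RingAut F} (h : σ ≠ 1) (s : ∀ b, σ (σ b) = b) {b : F}
    (hb : σ b = b) : ∃ u, b = σ u + u := by
  obtain ⟨y, hy⟩ := ex_ne h
  have hd := tr_ne hy
  refine ⟨b * y / (σ y + y), ?_⟩
  rw [map_div₀, map_mul, map_add, s, hb, add_comm y]
  field_simp

theorem crd_surj [CharP F 2] {σ : RingAut F} (s : ∀ b, σ (σ b) = b) {y : F} (hy : σ y ≠ y) :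
    Function.Surjective (crd σ y) := fun x => by
  have hd := tr_ne hy
  have h2 : (2 : F) = 0 := CharTwo.two_eq_zero
  have hv : σ ((σ x + x) / (σ y + y)) = (σ x + x) / (σ y + y) := by
    rw [map_div₀, map_add, map_add, s, s, add_comm x, add_comm y]
  have hd' : (σ x + x) / (σ y + y) * (σ y + y) = σ x + x := div_mul_cancel₀ _ hd
  refine ⟨⟨⟨x + (σ x + x) / (σ y + y) * y, ?_⟩, ⟨_, hv⟩⟩, ?_⟩
  · rw [map_add, map_mul, hv]
    linear_combination hd' + (σ x - (σ x + x) / (σ y + y) * y) * h2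
  · simp only [crd]
    linear_combination ((σ x + x) / (σ y + y) * y) * h2

theorem fix_le [Finite F] {σ : RingAut F} (h : σ ≠ 1) :
    Nat.card {b // σ b = b} ^ 2 ≤ Nat.card F := by
  obtain ⟨y, hy⟩ := ex_ne h
  rw [pow_two, ← Nat.card_prod]
  exact Nat.card_le_card_of_injective _ (crd_inj hy)

theorem fix_eq [CharP F 2] {σ : RingAut F} (h : σ ≠ 1) (s : ∀ b, σ (σ b) = b) :
    Nat.card {b // σ b = b} ^ 2 = Nat.card F := by
  obtain ⟨y, hy⟩ := ex_ne h
  rw [pow_two, ← Nat.card_prod]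
  exact Nat.card_congr (Equiv.ofBijective _ ⟨crd_inj hy, crd_surj s hy⟩)

/-- lower unitriangular matrices -/
def lo (c : F) : SL(2, F) := H9.slMk !![1, 0; c, 1] (by simp)

theorem coe_lo (c : F) : (lo c).1 = !![1, 0; c, 1] := rfl

theorem lo_eq [CharP F 2] (c : F) : lo c = H66.upT 1 * lo 1 * H66.upT 1 * H66.upT c *
    (H66.upT 1 * lo 1 * H66.upT 1) := by
  have h2 : (2 : F) = 0 := CharTwo.two_eq_zero
  ext i j
  fin_cases i <;> fin_cases j <;>
    simp [coe_lo, H66.coe_upT, Matrix.mul_apply, Fin.sum_univ_two, CharTwo.add_self_eq_zero]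

theorem lo_sq [CharP F 2] : lo (1 : F) * lo 1 = 1 := by
  ext i j
  fin_cases i <;> fin_cases j <;>
    simp [coe_lo, Matrix.mul_apply, Fin.sum_univ_two, CharTwo.add_self_eq_zero]

theorem cube [CharP F 2] :
    H66.upT (1 : F) * lo 1 * (H66.upT 1 * lo 1) * (H66.upT 1 * lo 1) = 1 := by
  ext i j
  fin_cases i <;> fin_cases j <;>
    simp [coe_lo, H66.coe_upT, Matrix.mul_apply, Fin.sum_univ_two, CharTwo.add_self_eq_zero]

theorem decomp (x : SL(2, F)) (h : x.1 1 0 ≠ 0) :
    x = H66.upT ((x.1 0 0 - 1) / x.1 1 0) * lo (x.1 1 0) * H66.upT ((x.1 1 1 - 1) / x.1 1 0) := by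
  have hd := x.2
  rw [Matrix.det_fin_two] at hd
  ext i j
  fin_cases i <;> fin_cases j <;>
    simp [coe_lo, H66.coe_upT, Matrix.mul_apply, Fin.sum_univ_two]
  · field_simp; ring
  · field_simp; linear_combination -hd
  · field_simp; ring

theorem gen [CharP F 2] {H : Subgroup SL(2, F)} (h1 : ∀ b, H66.upT b ∈ H) (h2 : lo 1 ∈ H)
    (x : SL(2, F)) : x ∈ H := by
  have h3 : ∀ c, lo c ∈ H := fun c => by
    rw [lo_eq]
    exact mul_mem (mul_mem (mul_mem (mul_mem (h1 _) h2) (h1 _)) (h1 _))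
      (mul_mem (mul_mem (h1 _) h2) (h1 _))
  have h4 : ∀ y : SL(2, F), y.1 1 0 ≠ 0 → y ∈ H := fun y hy => by
    rw [decomp y hy]
    exact mul_mem (mul_mem (h1 _) (h3 _)) (h1 _)
  by_cases h : x.1 1 0 = 0
  · have hd := x.2
    rw [Matrix.det_fin_two, h] at hd
    refine (mul_mem_cancel_right h2).1 (h4 _ ?_)
    have : (x * lo 1).1 1 0 = x.1 1 1 := by
      simp [coe_lo, Matrix.mul_apply, Fin.sum_univ_two, h]
    rw [this]
    rintro e
    simp [e] at hd
  · exact h4 x h

theorem shape [CharP F 2] {m : SL(2, F)} (h2 : m * m = 1)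
    (h3 : H66.upT 1 * m * (H66.upT 1 * m) * (H66.upT 1 * m) = 1) :
    (∃ r, m = H66.upT r) ∨ ∃ b, m = H66.upT b * lo 1 * H66.upT b := by
  have c2 : (2 : F) = 0 := CharTwo.two_eq_zero
  have hd := m.2
  rw [Matrix.det_fin_two] at hd
  have a00 := congrArg (fun g : SL(2, F) => g.1 0 0) h2
  have a01 := congrArg (fun g : SL(2, F) => g.1 0 1) h2
  have a10 := congrArg (fun g : SL(2, F) => g.1 1 0) h2
  have a11 := congrArg (fun g : SL(2, F) => g.1 1 1) h2
  have b10 := congrArg (fun g : SL(2, F) => g.1 1 0) h3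
  simp [H66.coe_upT, Matrix.mul_apply, Fin.sum_univ_two, Matrix.vecMul, dotProduct]
    at a00 a01 a10 a11 b10
  have hm : m.1 = !![m.1 0 0, m.1 0 1; m.1 1 0, m.1 1 1] := Matrix.eta_fin_two _
  generalize m.1 0 0 = p at *
  generalize m.1 0 1 = r at *
  generalize m.1 1 0 = s at *
  generalize m.1 1 1 = u at *
  have hu : u = p := by linear_combination (-u) * a00 + p * hd + r * a10
  subst hu
  have hs : s * (s + 1) ^ 2 = 0 := by
    linear_combination b10 + s * hd + s * (s + 1 - 2 * u ^ 2 - 2 * u * s) * c2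
  rcases mul_eq_zero.1 hs with hs | hs
  · have h1 : (u + 1) ^ 2 = 0 := by linear_combination hd + r * hs + (u + 1) * c2
    have h4 : u = 1 := by linear_combination (eq_zero_of_pow_eq_zero h1) - c2
    exact Or.inl ⟨r, Subtype.ext (by rw [hm, hs, h4, H66.coe_upT])⟩
  · have h4 : s = 1 := by linear_combination (eq_zero_of_pow_eq_zero hs) - c2
    subst h4
    refine Or.inr ⟨u + 1, Subtype.ext ?_⟩
    rw [hm]
    ext i j
    fin_cases i <;> fin_cases j <;>
      simp [coe_lo, H66.coe_upT, Matrix.mul_apply, Fin.sum_univ_two]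
    · linear_combination -c2
    · linear_combination -hd - (2 * u + 2) * c2
    · linear_combination -c2

end Base1b

end Cfsg.Agent.L2S
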