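/-
Standard subgroups of type `L₂(2^a)`: the semilinear action on `V`. See `notes/L2S.md`.
-/
import Cfsg.Agent.L2S.Base1
import Cfsg.Agent.L2S.Base1c

set_option autoImplicit false
set_option linter.unusedSectionVars false

namespace Cfsg.Agent.L2S

open Cfsg Subgroup H49
open H42 (SylIn exists_sylIn)
open TL2 (cm cm' mn mem_sup_t p2_zpowers p2_sup)
open scoped MatrixGroups

variable {G F : Type*} [Group G] [Finite G] [Field F] [Fintype F] [CharP F 2]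

namespace Ctx0

variable (c : Ctx0 G F)

theorem z_L {g : G} (hg : g ∈ 𝒩(c.V)) (b : F) : c.z (c.L g b) = g * c.z b * g⁻¹ :=
  c.z_co (cm hg (c.z_mem b))
theorem L_add {g : G} (hg : g ∈ 𝒩(c.V)) (b d : F) : c.L g (b + d) = c.L g b + c.L g d :=
  c.z_injective (by rw [c.z_add, c.z_L hg, c.z_L hg, c.z_L hg, c.z_add]; group)
theorem L_mul {g g' : G} (hg' : g' ∈ 𝒩(c.V)) (b : F) : c.L (g * g') b = c.L g (c.L g' b) := by
  rw [L, L, c.z_L hg']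
  congr 1
  group
theorem L_one (b : F) : c.L 1 b = b := by simp [L]
theorem L_bij {g : G} (hg : g ∈ 𝒩(c.V)) : Function.Bijective (c.L g) :=
  Finite.injective_iff_bijective.1 (Function.LeftInverse.injective (g := c.L g⁻¹) fun b => by
    rw [← c.L_mul hg, inv_mul_cancel, L_one])
theorem L_h_pow (i : ℕ) (b : F) : c.L (c.h ^ i) b = c.μ ^ i * b := by rw [L, h_pow_z, co_z]
theorem L_id {g : G} (hg : g ∈ 𝒩(c.V)) : g ∈ 𝒞(c.V) ↔ ∀ b, c.L g b = b := by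
  constructor
  · intro h b
    rw [L, ← h _ (c.z_mem b), mul_inv_cancel_right, co_z]
  · rintro h _ ⟨b, rfl⟩
    have := c.z_L hg b
    rw [h] at this
    exact mul_inv_eq_iff_eq_mul.1 this.symm |>.symm

theorem b1b_VC {v : G} (hv : v ∈ c.V) : v ∈ 𝒞(c.V) := fun _ hw => c.commV hw hv
theorem b1b_VN {v : G} (hv : v ∈ c.V) : v ∈ 𝒩(c.V) := le_normalizer hv
theorem b1b_L0 (g : G) : c.L g 0 = 0 := by rw [L, z_zero, mul_one, mul_inv_cancel, ← c.z_zero, co_z]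
theorem b1b_Lhz (i : ℕ) (b x : F) : c.L (c.h ^ i * c.z b) x = c.μ ^ i * x := by
  rw [c.L_mul (c.b1b_VN (c.z_mem b)), (c.L_id (c.b1b_VN (c.z_mem b))).1 (c.b1b_VC (c.z_mem b)),
    L_h_pow]

/-- elements normalizing `A` and `V` act semilinearly -/
theorem semi {g : G} (hA : g ∈ 𝒩(c.A)) (hV : g ∈ 𝒩(c.V)) :
    ∃ (r : F) (σ : F ≃+* F), r ≠ 0 ∧ ∀ b, g * c.z b * g⁻¹ = c.z (r * σ b) := by
  obtain ⟨k, b0, hk⟩ := c.NAV (cm hA c.h_mem_A)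
    (mul_mem (mul_mem hV c.h_mem_NV) (inv_mem hV))
  have h1 : ∀ x, c.L g (c.μ * x) = c.μ ^ k * c.L g x := fun x => by
    have := c.L_h_pow 1 x
    rw [pow_one, pow_one] at this
    rw [← this, ← c.L_mul c.h_mem_NV, ← c.b1b_Lhz k b0, ← hk, ← c.L_mul hV, inv_mul_cancel_right]
  have h2 : ∀ (i : ℕ) x, c.L g (c.μ ^ i * x) = (c.μ ^ k) ^ i * c.L g x := fun i x => by
    induction i with
    | zero => simp
    | succ i ih => rw [pow_succ', mul_assoc, h1, ih, pow_succ', mul_assoc]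
  have hr : c.L g 1 ≠ 0 := fun e => one_ne_zero ((c.L_bij hV).1 (e.trans (c.b1b_L0 g).symm))
  let σ : F →+* F :=
    { toFun := fun x => (c.L g 1)⁻¹ * c.L g x
      map_one' := inv_mul_cancel₀ hr
      map_zero' := by rw [b1b_L0, mul_zero]
      map_add' := fun x y => by rw [c.L_add hV, mul_add]
      map_mul' := fun x y => by
        by_cases hx : x = 0
        · rw [hx, zero_mul, b1b_L0, mul_zero, zero_mul]
        obtain ⟨i, rfl⟩ := c.gen' hx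
        have := h2 i 1
        rw [mul_one] at this
        rw [h2, this]
        field_simp }
  refine ⟨c.L g 1, RingEquiv.ofBijective σ (Finite.injective_iff_bijective.1 σ.injective), hr,
    fun b => ?_⟩
  rw [← c.z_L hV]
  congr 1
  exact (mul_inv_cancel_left₀ hr _).symm

theorem semiT {x : G} (hx : x ∈ c.T) : ∃ σ : F ≃+* F, ∀ b, x * c.z b * x⁻¹ = c.z (σ b) := by
  obtain ⟨r, σ, -, h⟩ := c.semi (c.CNA (c.Tt hx)) (c.T_le_NV hx)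
  have h1 := h 1
  rw [c.Tz hx, mul_inv_cancel_right, map_one, mul_one, z_inj] at h1
  exact ⟨σ, fun b => by rw [h, ← h1, one_mul]⟩

/-- an automorphism of `A` centralizing `V` is induced by an element of `V` -/
theorem ker {g : G} (hA : g ∈ 𝒩(c.A)) (hV : g ∈ 𝒞(c.V)) : ∃ b, (c.z b)⁻¹ * g ∈ 𝒞(c.A) := by
  obtain ⟨m, hm⟩ : g * c.φ (Base1b.lo 1) * g⁻¹ ∈ c.A := cm hA ⟨_, rfl⟩
  have hz : ∀ b, g * c.z b * g⁻¹ = c.z b := fun b => by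
    rw [← hV _ (c.z_mem b), mul_inv_cancel_right]
  have h2 : m * m = 1 := c.inj (by
    rw [map_mul, hm, map_one, conj_mul, ← map_mul, Base1b.lo_sq, map_one, mul_one, mul_inv_cancel])
  have h3 : H66.upT 1 * m * (H66.upT 1 * m) * (H66.upT 1 * m) = 1 := c.inj (by
    have e : c.φ (H66.upT 1 * m) = g * c.φ (H66.upT 1 * Base1b.lo 1) * g⁻¹ := by
      rw [map_mul, map_mul, hm, ← conj_mul, ← z, hz]
    rw [map_mul, map_mul, e, conj_mul, conj_mul, ← map_mul, ← map_mul, Base1b.cube, map_one,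
      mul_one, mul_inv_cancel])
  rcases Base1b.shape h2 h3 with ⟨r, rfl⟩ | ⟨b, rfl⟩
  · rw [← z, ← hz, mul_left_inj, mul_right_inj] at hm
    simpa [Base1b.coe_lo, H66.coe_upT] using congrArg (fun g : SL(2, F) => g.1 1 0) (c.inj hm)
  · refine ⟨b, ?_⟩
    rintro _ ⟨x, rfl⟩
    have hi : (c.z b)⁻¹ = c.z b := inv_eq_of_mul_eq_one_right (c.z_sq b)
    refine mem_cent1.1 (Base1b.gen (H := 𝒞[(c.z b)⁻¹ * g].comap c.φ) (fun d => ?_) ?_ x)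
    · exact mem_cent1.2 (mul_mem (inv_mem (c.b1b_VC (c.z_mem b))) hV _ (c.z_mem d))
    · refine mem_cent1.2 ?_
      rw [map_mul, map_mul, ← z, eq_mul_inv_iff_mul_eq] at hm
      rw [mul_assoc _ g, ← hm, hi, ← mul_assoc, ← mul_assoc, ← mul_assoc, ← mul_assoc, c.z_sq,
        one_mul]

/-- the field automorphism induced by an element of `T` -/
noncomputable def b1b_ψ : c.T →* RingAut F :=
  MonoidHom.mk' (fun x => (c.semiT x.2).choose) fun x y => RingEquiv.ext fun b => c.z_injective (by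
    rw [← (c.semiT (x * y).2).choose_spec, RingAut.mul_apply, ← (c.semiT x.2).choose_spec,
      ← (c.semiT y.2).choose_spec, Subgroup.coe_mul]
    group)

theorem b1b_z (x : c.T) (b : F) : (x : G) * c.z b * (x : G)⁻¹ = c.z (c.b1b_ψ x b) :=
  (c.semiT x.2).choose_spec b

theorem b1b_L (x : c.T) (b : F) : c.L x b = c.b1b_ψ x b := by rw [L, b1b_z, co_z]

theorem b1b_ker (x : c.T) : c.b1b_ψ x = 1 ↔ (x : G) ∈ 𝒞(c.V) := by
  rw [c.L_id (c.T_le_NV x.2)]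
  simp only [b1b_L]
  exact ⟨fun h b => by rw [h]; rfl, fun h => RingEquiv.ext h⟩

theorem b1b_ne {x : G} (hx : x ∈ c.T) (h1 : x ∉ 𝒞(c.V)) : c.b1b_ψ ⟨x, hx⟩ ≠ 1 :=
  fun e => h1 ((c.b1b_ker _).1 e)

theorem b1b_sq {x : G} (hx : x ∈ c.T) (h2 : x * x ∈ 𝒞(c.V)) :
    c.b1b_ψ ⟨x, hx⟩ * c.b1b_ψ ⟨x, hx⟩ = 1 := by
  rw [← map_mul]
  exact (c.b1b_ker _).2 h2

theorem b1b_sq' {x : G} (hx : x ∈ c.T) (h2 : x * x ∈ 𝒞(c.V)) (b : F) :
    c.b1b_ψ ⟨x, hx⟩ (c.b1b_ψ ⟨x, hx⟩ b) = b := by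
  rw [← RingAut.mul_apply, c.b1b_sq hx h2]
  rfl

theorem b1b_card (x : c.T) :
    Nat.card (c.V ⊓ 𝒞[(x : G)] : Subgroup G) = Nat.card {b // c.b1b_ψ x b = b} := by
  have key : ∀ b, c.z b * x = x * c.z b ↔ c.b1b_ψ x b = b := fun b => by
    rw [← c.z_inj, ← b1b_z, mul_inv_eq_iff_eq_mul, eq_comm]
  refine (Nat.card_congr (Equiv.ofBijective (fun b : {b // c.b1b_ψ x b = b} =>
    (⟨c.z b, c.z_mem b, mem_cent1.2 ((key b).2 b.2)⟩ : (c.V ⊓ 𝒞[(x : G)] : Subgroup G)))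
    ⟨fun b d e => Subtype.ext (c.z_injective (congrArg Subtype.val e)), ?_⟩)).symm
  rintro ⟨_, ⟨b, rfl⟩, h⟩
  exact ⟨⟨b, (key b).1 (mem_cent1.1 h)⟩, rfl⟩

/-- `T / C_T(V)` is cyclic of order dividing `a` -/
theorem Tcyc : ∃ f ∈ c.T, ∃ k : ℕ, 2 ^ k ∣ c.a ∧ (𝒞(c.V)).relIndex c.T = 2 ^ k ∧
    ∀ x ∈ c.T, ∃ i : ℕ, (f ^ i)⁻¹ * x ∈ 𝒞(c.V) := by
  have := Base1b.cyc (F := F)
  have : Finite (RingAut F) := Finite.of_injective _ DFunLike.coe_injective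
  obtain ⟨⟨_, f, rfl⟩, hf⟩ := IsCyclic.exists_generator (α := c.b1b_ψ.range)
  obtain ⟨k, hk⟩ := (c.syl.isP.of_surjective _ c.b1b_ψ.rangeRestrict_surjective).exists_card_eq
  refine ⟨f, f.2, k, ?_, ?_, fun x hx => ?_⟩
  · rw [← hk, ← Base1b.card_aut c.card]
    exact card_subgroup_dvd_card _
  · rw [← hk, ← index_ker, relIndex]
    congr 1
    ext x
    rw [mem_subgroupOf, MonoidHom.mem_ker, b1b_ker]
  · obtain ⟨i, hi⟩ := mem_powers_iff_mem_zpowers.2 (hf ⟨_, ⟨x, hx⟩, rfl⟩)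
    refine ⟨i, (c.b1b_ker ((f ^ i)⁻¹ * ⟨x, hx⟩)).1 ?_⟩
    have := congrArg Subtype.val hi
    simp only [SubmonoidClass.coe_pow] at this
    rw [map_mul, map_inv, map_pow, this, inv_mul_cancel]

/-- elements inducing the field automorphism of order two -/
theorem out_even {x : G} (hx : x ∈ c.T) (h1 : x ∉ 𝒞(c.V)) : Even c.a := by
  obtain ⟨f, -, k, h2, h3, -⟩ := c.Tcyc
  rcases k with _ | k
  · exact absurd (relIndex_eq_one.1 h3 hx) h1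
  · exact even_iff_two_dvd.2 ((dvd_pow_self 2 k.succ_ne_zero).trans h2)
theorem out_card {x : G} (hx : x ∈ c.T) (h1 : x ∉ 𝒞(c.V)) (h2 : x * x ∈ 𝒞(c.V)) :
    Nat.card (c.V ⊓ 𝒞[x] : Subgroup G) ^ 2 = 2 ^ c.a := by
  rw [c.b1b_card ⟨x, hx⟩, Base1b.fix_eq (c.b1b_ne hx h1) (c.b1b_sq' hx h2), c.card]
theorem out_card_le {x : G} (hx : x ∈ c.T) (h1 : x ∉ 𝒞(c.V)) :
    Nat.card (c.V ⊓ 𝒞[x] : Subgroup G) ^ 2 ≤ 2 ^ c.a := by
  rw [c.b1b_card ⟨x, hx⟩, ← c.card]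
  exact Base1b.fix_le (c.b1b_ne hx h1)
theorem out_free {x : G} (hx : x ∈ c.T) (h1 : x ∉ 𝒞(c.V)) (h2 : x * x ∈ 𝒞(c.V)) {v : G}
    (hv : v ∈ c.V) (e : v * x = x * v) : ∃ u ∈ c.V, v = x * u * x⁻¹ * u := by
  obtain ⟨b, rfl⟩ := hv
  have hb : c.b1b_ψ ⟨x, hx⟩ b = b := by
    rw [← c.z_inj, ← b1b_z, ← e, mul_inv_cancel_right]
  obtain ⟨u, hu⟩ := Base1b.free (c.b1b_ne hx h1) (c.b1b_sq' hx h2) hb
  exact ⟨c.z u, c.z_mem u, by rw [hu, z_add, ← b1b_z]⟩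
theorem out_uniq {x y : G} (hx : x ∈ c.T) (h1 : x ∉ 𝒞(c.V)) (h2 : x * x ∈ 𝒞(c.V)) (hy : y ∈ c.T)
    (h3 : y ∉ 𝒞(c.V)) (h4 : y * y ∈ 𝒞(c.V)) : x * y ∈ 𝒞(c.V) := by
  refine (c.b1b_ker (⟨x, hx⟩ * ⟨y, hy⟩)).1 ?_
  rw [map_mul, Base1b.uniq (c.b1b_ne hx h1) (c.b1b_ne hy h3) (c.b1b_sq hx h2) (c.b1b_sq hy h4),
    c.b1b_sq hy h4]
theorem out_adj {x : G} (hx : x ∈ c.T) (h1 : x ∉ 𝒞(c.V)) (h2 : x * x ∈ c.V) :
    ∃ v ∈ c.V, x * v * (x * v) = 1 := by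
  obtain ⟨u, hu, e⟩ := c.out_free hx h1 (c.b1b_VC h2) h2 (mul_assoc _ _ _)
  refine ⟨u, hu, ?_⟩
  have h3 := c.sqV (cm (c.T_le_NV hx) hu)
  calc x * u * (x * u) = x * u * x⁻¹ * (x * x) * u := by group
    _ = x * u * x⁻¹ * (x * u * x⁻¹) * (u * u) := by rw [e]; group
    _ = 1 := by rw [h3, c.sqV hu, one_mul]
theorem out_inv {f : G} (hf : f ∈ c.T) (h1 : f ∉ 𝒞(c.V)) (ff : f * f = 1) :
    ∃ i : ℕ, ∃ b : F, c.μ ^ i ≠ 1 ∧ Odd (orderOf (c.h ^ i * c.z b)) ∧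
      f * (c.h ^ i * c.z b) * f = (c.h ^ i * c.z b)⁻¹ := by
  have hV := c.T_le_NV hf
  have fi : f⁻¹ = f := inv_eq_of_mul_eq_one_right ff
  obtain ⟨i, b, e⟩ := c.NAV (mul_mem (inv_mem c.h_mem_A) (cm (c.CNA (c.Tt hf)) c.h_mem_A))
    (mul_mem (inv_mem c.h_mem_NV) (mul_mem (mul_mem hV c.h_mem_NV) (inv_mem hV)))
  have hi : c.μ ^ i ≠ 1 := fun e1 => c.b1b_ne hf h1 (by
    have h2 : c.h * (c.h ^ i * c.z b) * f = f * c.h := by rw [← e]; group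
    have h3 := congrArg (fun g => c.L g 1) h2
    have h4 := c.L_h_pow 1
    simp only [pow_one] at h4
    simp only [c.L_mul hV, c.L_mul c.h_mem_NV, c.L_mul (mul_mem (pow_mem c.h_mem_NV i)
      (c.b1b_VN (c.z_mem b))), b1b_Lhz, e1, h4, c.b1b_L ⟨f, hf⟩, map_one, mul_one] at h3
    refine RingEquiv.ext fun x => ?_
    by_cases hx : x = 0
    · rw [hx, map_zero, map_zero]
    obtain ⟨j, rfl⟩ := c.gen' hx
    rw [map_pow, ← h3]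
    rfl)
  refine ⟨i, b, hi, ?_, by rw [← e, fi]; simp [mul_assoc, fi, ff]⟩
  have h5 : 1 + c.μ ^ i ≠ 0 := by rwa [add_comm, ← CharTwo.sub_eq_add, sub_ne_zero]
  have h6 := c.h_pow_z i (b / (1 + c.μ ^ i))
  have h7 : c.h ^ i * c.z b = c.z (c.μ ^ i * (b / (1 + c.μ ^ i))) * c.h ^ i *
      (c.z (c.μ ^ i * (b / (1 + c.μ ^ i))))⁻¹ := by
    rw [inv_eq_of_mul_eq_one_right (c.z_sq _), ← mul_inv_eq_iff_eq_mul.1 h6, mul_assoc, ← z_add]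
    congr 2
    field_simp
  have h8 : Odd (orderOf c.h) := by
    rw [c.ord_h]
    exact Nat.Even.sub_odd Nat.one_le_two_pow
      (even_iff_two_dvd.2 (dvd_pow_self 2 (by have := c.ha; omega))) odd_one
  rw [h7, ← MulAut.conj_apply, MulEquiv.orderOf_eq]
  exact h8.of_dvd_nat (orderOf_pow_dvd i)
/-- Frattini -/
theorem frat {g : G} (hg : g ∈ 𝒩(c.A)) : ∃ y ∈ c.A, y⁻¹ * g ∈ 𝒩(c.V) ∧
    y⁻¹ * g * c.z 1 = c.z 1 * (y⁻¹ * g) := by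
  obtain ⟨y, hy, h⟩ := c.sylV.exists_conj (R := cj g c.V) (c.p2V.map _)
    (cj_le_of_mem_norm c.V_le_A hg)
  have h1 : y * g ∈ 𝒩(c.V) := mn fun v hv => by
    have := h (g * v * g⁻¹) ⟨v, hv, rfl⟩
    rwa [show y * g * v * (y * g)⁻¹ = y * (g * v * g⁻¹) * y⁻¹ by group]
  have hr : c.L (y * g) 1 ≠ 0 :=
    fun e => one_ne_zero ((c.L_bij h1).1 (e.trans (c.b1b_L0 _).symm))
  obtain ⟨j, hj⟩ := c.gen' (inv_ne_zero hr)
  have h2 : c.h ^ j * (y * g) ∈ 𝒩(c.V) := mul_mem (pow_mem c.h_mem_NV j) h1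
  refine ⟨(c.h ^ j * y)⁻¹, inv_mem (mul_mem (pow_mem c.h_mem_A j) hy), ?_, ?_⟩
  · rwa [inv_inv, mul_assoc]
  · have := c.z_L h2 1
    rw [c.L_mul h1, L_h_pow, hj, inv_mul_cancel₀ hr] at this
    rw [inv_inv, mul_assoc _ y]
    exact mul_inv_eq_iff_eq_mul.1 this.symm

end Ctx0

end Cfsg.Agent.L2S
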