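/-
Standard subgroups of type `L₂(2^a)` (S1773): the groups `T`, `O`, `B`. See `notes/L2S.md`.
-/
import Cfsg.Agent.L2S.Base1b
import Cfsg.Agent.H44.Cores

set_option autoImplicit false
set_option linter.unusedSectionVars false

namespace Cfsg.Agent.L2S

open Cfsg Subgroup H49
open H42 (SylIn exists_sylIn)
open TL2 (cm cm' mn mem_sup_t p2_zpowers p2_sup)

variable {G F : Type*} [Group G] [Finite G] [Field F] [Fintype F] [CharP F 2]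

namespace Base2

theorem exists_pow_sq {H : Subgroup G} {n : ℕ} : ∀ {x : G}, x ∉ H → x ^ 2 ^ n ∈ H →
    ∃ j : ℕ, x ^ 2 ^ j ∉ H ∧ x ^ 2 ^ j * x ^ 2 ^ j ∈ H := by
  induction n with
  | zero => intro x h1 h2; exact absurd (by simpa using h2) h1
  | succ n ih =>
    intro x h1 h2
    by_cases h : x ^ 2 ^ n ∈ H
    · exact ih h1 h
    · exact ⟨n, h, by rwa [← pow_two, ← pow_mul, ← pow_succ]⟩

theorem four_le (c : Ctx0 G F) : 4 ≤ 2 ^ c.a :=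
  calc 4 = 2 ^ 2 := rfl
    _ ≤ 2 ^ c.a := Nat.pow_le_pow_right (by norm_num) c.ha

theorem sqP (c : Ctx0 G F) {D : Subgroup G} (hD : D ≤ 𝒞[c.t]) (sq : ∀ d ∈ D, d * d = 1)
    (tN : c.t ∈ 𝒩(D)) {x : G} (hx : x ∈ c.P D) : x * x = 1 := by
  rcases (c.mem_P tN).1 hx with e | e
  · exact sq x e
  · have h1 := sq _ e
    have h2 : c.t * x * c.t = c.t * (c.t * x) := mem_cent1.1 (hD e)
    rw [← mul_assoc, h2, c.tt'] at h1
    exact h1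

theorem tN (c : Ctx0 G F) {D : Subgroup G} (hD : D ≤ 𝒞[c.t]) : c.t ∈ 𝒩(D) :=
  mn fun d hd => by rwa [← mem_cent1.1 (hD hd), mul_inv_cancel_right]

end Base2

open Base2

namespace Ctx0

variable (c : Ctx0 G F)

theorem cardP {Q : Subgroup G} (h : c.t ∈ 𝒩(Q)) (ht : c.t ∉ Q) :
    Nat.card (c.P Q) = 2 * Nat.card Q := by
  rw [P, TL2.card_two le_sup_left (NO6.relIndex_sup_zpowers h (c.tt ▸ one_mem Q) ht), mul_comm]
theorem cardB : Nat.card c.B = 2 * 2 ^ c.a := by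
  rw [B, c.cardP c.t_mem_NV c.t_notMem_V, c.cardV]
theorem sqB {x : G} (hx : x ∈ c.B) : x * x = 1 :=
  sqP c (c.V_le_T.trans c.T_le) (fun _ h => c.sqV h) c.t_mem_NV hx
theorem B_le_T : c.B ≤ c.T := sup_le c.V_le_T (zpowers_le.2 c.t_mem_T)
theorem B_le_CV : c.B ≤ 𝒞(c.V) :=
  sup_le (le_cent_iff.2 fun _ ha _ hx => c.commV hx ha)
    (zpowers_le.2 (le_cent1_iff.1 (c.V_le_T.trans c.T_le)))
theorem N1_le_NB : c.N1 ≤ 𝒩(c.B) := fun g hg => mn fun x hx => by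
  obtain ⟨h1, h2⟩ := c.mem_N1.1 hg
  refine c.mem_B.2 ((c.mem_B.1 hx).imp (cm h2) fun e => ?_)
  have := cm h2 e
  rwa [← mul_assoc, h1, mul_assoc, mul_assoc, ← mul_assoc g] at this
theorem O_odd : Odd (Nat.card c.O) := Nat.coprime_two_right.1 (H44.pPrimeCoreOf_coprime _)
theorem O_le_CA : c.O ≤ 𝒞(c.A) := (map_subtype_le _).trans inf_le_right
theorem O_le_Ct : c.O ≤ 𝒞[c.t] := (map_subtype_le _).trans inf_le_left
theorem O_le_N1 : c.O ≤ c.N1 :=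
  le_inf c.O_le_Ct (c.O_le_CA.trans ((cent_anti c.V_le_A).trans (cent_le_norm _)))
theorem Ct_le_NO : 𝒞[c.t] ≤ 𝒩(c.O) :=
  (norm_inf (norm_of_le le_rfl) (norm_cent c.CN)).trans
    (H44.normalizer_le_normalizer_pPrimeCoreOf _)
theorem M0.tV {c : Ctx0 G F} (h : c.M0) (b : F) :
    ∃ g ∈ 𝒩(c.B), g * c.t * g⁻¹ = c.t * c.z b := by
  by_cases hb : b = 0
  · exact ⟨1, one_mem _, by simp [hb]⟩
  obtain ⟨g, hg, h1⟩ := h.mv
  obtain ⟨d, hd⟩ := (c.mem_B.1 (cm hg (c.t_mem_P c.V))).resolve_left (h.nc g)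
  have h2 : g * c.t * g⁻¹ = c.t * c.z d := by rw [← hd, c.tt']
  have d0 : d ≠ 0 := fun e => h1 (by rw [h2, e, z_zero, mul_one])
  obtain ⟨i, hi⟩ := c.gen' (div_ne_zero hb d0)
  refine ⟨c.h ^ i * g, mul_mem (pow_mem (c.N1_le_NB c.h_mem_N1) i) hg, ?_⟩
  have h3 : c.h ^ i * c.t = c.t * c.h ^ i := (Commute.pow_right c.th i).symm
  calc _ = c.h ^ i * (g * c.t * g⁻¹) * (c.h ^ i)⁻¹ := by group
    _ = c.t * (c.h ^ i * c.z d * (c.h ^ i)⁻¹) := by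
      rw [h2, ← mul_assoc, h3]; group
    _ = _ := by rw [h_pow_z, hi, div_mul_cancel₀ _ d0]
theorem M0.NB_NV {c : Ctx0 G F} (h : c.M0) : 𝒩(c.B) ≤ 𝒩(c.V) := fun g hg => mn fun v hv => by
  refine (c.mem_B.1 (cm hg (c.le_P c.V hv))).resolve_right ?_
  rintro ⟨b, hb⟩
  obtain ⟨k, -, hk⟩ := h.tV b
  refine h.nc (g⁻¹ * k) ?_
  have : g⁻¹ * k * c.t * (g⁻¹ * k)⁻¹ = v := by
    calc _ = g⁻¹ * (k * c.t * k⁻¹) * g := by group
      _ = v := by rw [hk, ← hb, c.tt']; group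
  rwa [this]

end Ctx0

namespace Ctx

variable (c : Ctx G F)

theorem CT {x : G} (hx : x ∈ c.T) : x ∈ 𝒞(c.V) ↔ x ∈ c.B := by
  refine ⟨fun h => ?_, fun h => c.B_le_CV h⟩
  obtain ⟨b, hb⟩ := c.ker (c.CNA (c.Tt hx)) h
  rcases c.R2 _ (mul_mem (inv_mem (c.V_le_T (c.z_mem b))) hx) hb with e | e
  · rw [← inv_mul_eq_one.1 e]
    exact c.le_P _ (c.z_mem b)
  · rw [inv_mul_eq_iff_eq_mul.1 e]
    exact mul_mem (c.le_P _ (c.z_mem b)) (c.t_mem_P _)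

theorem CA {x : G} (ht : x * c.t = c.t * x) (hA : x ∈ 𝒞(c.A)) : x ∈ c.O ∨ c.t * x ∈ c.O := by
  set K : Subgroup G := 𝒞[c.t] ⊓ 𝒞(c.A) with hK
  have tK : c.t ∈ K := ⟨self_mem_cent1 _, mem_centralizer_iff.2 fun y hy => (c.tA hy).symm⟩
  have xK : x ∈ K := ⟨mem_cent1.2 ht, hA⟩
  have hS := c.syl.inf_normal (M := K) inf_le_left (norm_inf (norm_of_le le_rfl) (norm_cent c.CN))
  have e : c.T ⊓ K = zpowers c.t := le_antisymm
    (fun y hy => (H42.mem_zpowers_of_mul_self c.tt).2 (c.R2 y hy.1 hy.2.2))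
    (zpowers_le.2 ⟨c.t_mem_T, tK⟩)
  rw [e] at hS
  have hn : K ≤ 𝒩(zpowers c.t) :=
    norm_of_cent (by rw [cent_zpowers]; exact inf_le_left)
  have := normal_subgroupOf hn
  have c2 : Nat.card ((zpowers c.t).subgroupOf K) = 2 := by
    rw [Nat.card_congr (subgroupOfEquivOfLe hS.le).toEquiv, Nat.card_zpowers,
      orderOf_eq_prime (by rw [pow_two, c.tt]) c.t1]
  have od : ¬ 2 ∣ ((zpowers c.t).subgroupOf K).index := hS.ndvd
  obtain ⟨H, hH⟩ := exists_right_complement'_of_coprime (N := (zpowers c.t).subgroupOf K)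
    (by rw [c2]; exact (Nat.Prime.coprime_iff_not_dvd Nat.prime_two).2 od)
  have i2 : H.index = 2 := by rw [hH.index_eq_card, c2]
  have hle : H ≤ oddCore K := H44.le_pPrimeCore (normal_of_index_eq_two i2) (by
    rw [← hH.symm.index_eq_card]
    exact ((Nat.Prime.coprime_iff_not_dvd Nat.prime_two).2 od).symm)
  have tH : (⟨c.t, tK⟩ : K) ∉ H := fun h =>
    c.t1 (congrArg Subtype.val (disjoint_def.1 hH.disjoint (mem_zpowers c.t) h))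
  by_cases h : (⟨x, xK⟩ : K) ∈ H
  · exact Or.inl ⟨_, hle h, rfl⟩
  · exact Or.inr ⟨_, hle ((mul_mem_iff_of_index_two i2).2 (iff_of_false tH h)), rfl⟩

theorem CB {x : G} (ht : x * c.t = c.t * x) (hV : x ∈ 𝒞(c.V)) :
    ∃ b ∈ c.B, ∃ o ∈ c.O, x = b * o := by
  obtain ⟨b, hb⟩ := c.ker (c.CNA ht) hV
  have h1 : (c.z b)⁻¹ * x * c.t = c.t * ((c.z b)⁻¹ * x) :=
    mem_cent1.1 (mul_mem (inv_mem (c.T_le (c.V_le_T (c.z_mem b)))) (mem_cent1.2 ht))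
  rcases c.CA h1 hb with e | e
  · exact ⟨c.z b, c.le_P _ (c.z_mem b), _, e, by group⟩
  · exact ⟨c.z b * c.t, mul_mem (c.le_P _ (c.z_mem b)) (c.t_mem_P _), _, e, by
      rw [mul_assoc, c.tt']; group⟩

private theorem BO {b o : G} (hb : b ∈ c.B) (ho : o ∈ c.O) : Commute b o :=
  mem_centralizer_iff.1 ((sup_le (cent_symm (c.O_le_CA.trans (cent_anti c.V_le_A)))
    (zpowers_le.2 (le_cent1_iff.1 c.O_le_Ct)) : c.B ≤ 𝒞(c.O)) hb) o ho |>.symm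

theorem two_CB {x : G} (ht : x * c.t = c.t * x) (hV : x ∈ 𝒞(c.V)) {n : ℕ} (h2 : x ^ 2 ^ n = 1) :
    x ∈ c.B := by
  obtain ⟨b, hb, o, ho, rfl⟩ := c.CB ht hV
  have h3 : o ^ 2 ^ (n + 1) = 1 := by
    have h4 : (b * o) ^ 2 ^ (n + 1) = 1 := by rw [pow_succ, pow_mul, h2, one_pow]
    rwa [(c.BO hb ho).mul_pow, pow_succ' 2 n, pow_mul b, pow_two b, c.sqB hb, one_pow, one_mul,
      ← pow_succ'] at h4
  have h5 : orderOf o = 1 := Nat.eq_one_of_dvd_coprimes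
    ((Nat.coprime_two_right.2 c.O_odd).pow_right (n + 1)) (c.O.orderOf_dvd_natCard ho)
    (orderOf_dvd_of_pow_eq_one h3)
  rwa [orderOf_eq_one_iff.1 h5, mul_one]

theorem odd_CB {x : G} (ht : x * c.t = c.t * x) (hV : x ∈ 𝒞(c.V)) (h2 : Odd (orderOf x)) :
    x ∈ c.O := by
  obtain ⟨b, hb, o, ho, rfl⟩ := c.CB ht hV
  obtain ⟨m, hm⟩ := h2
  have h3 := pow_orderOf_eq_one (b * o)
  rw [hm, (c.BO hb ho).mul_pow, pow_succ b, pow_mul b, pow_two b, c.sqB hb, one_pow,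
    one_mul] at h3
  exact mul_mem (eq_inv_of_mul_eq_one_left h3 ▸ inv_mem (pow_mem ho _)) ho

theorem Tgen : ∃ f ∈ c.T, ∀ x ∈ c.T, ∃ i : ℕ, ∃ v ∈ c.V, x = f ^ i * v ∨ x = c.t * (f ^ i * v) := by
  obtain ⟨f, hf, k, -, -, h⟩ := c.Tcyc
  refine ⟨f, hf, fun x hx => ?_⟩
  obtain ⟨i, hi⟩ := h x hx
  rcases c.mem_B.1 ((c.CT (mul_mem (inv_mem (pow_mem hf i)) hx)).1 hi) with e | e
  · exact ⟨i, _, e, Or.inl (by group)⟩
  · refine ⟨i, _, e, Or.inr ?_⟩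
    rw [← mul_assoc (f ^ i), c.Tt (pow_mem hf i), mul_assoc, c.tt']
    group

theorem Tcomm {x y : G} (hx : x ∈ c.T) (hy : y ∈ c.T) : x * y * x⁻¹ * y⁻¹ ∈ c.V := by
  obtain ⟨f, hf, h⟩ := c.Tgen
  have := normal_subgroupOf c.T_le_NV
  let π := QuotientGroup.mk' (c.V.subgroupOf c.T)
  let τ := π ⟨c.t, c.t_mem_T⟩
  let φ := π ⟨f, hf⟩
  have h1 : Commute τ φ := by
    change π _ * π _ = π _ * π _
    rw [← map_mul, ← map_mul]
    exact congrArg π (Subtype.ext (c.Tt hf).symm)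
  have h2 : ∀ x : c.T, ∃ i j : ℕ, π x = τ ^ j * φ ^ i := fun x => by
    obtain ⟨i, v, hv, e⟩ := h x x.2
    have h3 : π ⟨v, c.V_le_T hv⟩ = 1 := (QuotientGroup.eq_one_iff _).2 hv
    rcases e with e | e
    · refine ⟨i, 0, ?_⟩
      rw [pow_zero, one_mul, ← map_pow, ← mul_one (π (_ ^ i)), ← h3, ← map_mul]
      exact congrArg π (Subtype.ext e)
    · refine ⟨i, 1, ?_⟩
      rw [pow_one, ← map_pow, ← mul_one (π (_ ^ i)), ← h3, ← map_mul, ← map_mul]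
      exact congrArg π (Subtype.ext e)
  obtain ⟨i, j, e1⟩ := h2 ⟨x, hx⟩
  obtain ⟨i', j', e2⟩ := h2 ⟨y, hy⟩
  have h4 : Commute (π ⟨x, hx⟩) (π ⟨y, hy⟩) := by
    rw [e1, e2]
    exact (((Commute.refl τ).pow_pow _ _).mul_right (h1.pow_pow _ _)).mul_left
      ((h1.symm.pow_pow _ _).mul_right ((Commute.refl φ).pow_pow _ _))
  have h5 : π (⟨x, hx⟩ * ⟨y, hy⟩ * ⟨x, hx⟩⁻¹ * ⟨y, hy⟩⁻¹) = 1 := by
    rw [map_mul, map_mul, map_mul, map_inv, map_inv, h4.eq]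
    group
  exact mem_subgroupOf.1 ((QuotientGroup.eq_one_iff (N := c.V.subgroupOf c.T) _).1 h5)

private theorem CV_inf : 𝒞(c.V) ⊓ c.T = c.B :=
  le_antisymm (fun _ h => (c.CT h.2).1 h.1) (le_inf c.B_le_CV c.B_le_T)

private theorem relB : ∃ k : ℕ, 2 ^ k ∣ c.a ∧ c.B.relIndex c.T = 2 ^ k := by
  obtain ⟨f, -, k, h1, h2, -⟩ := c.Tcyc
  exact ⟨k, h1, by rw [← c.CV_inf, inf_relIndex_right, h2]⟩

theorem cardT : ∃ k : ℕ, 2 ^ k ∣ c.a ∧ Nat.card c.T = 2 * 2 ^ c.a * 2 ^ k := by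
  obtain ⟨k, h1, h2⟩ := c.relB
  exact ⟨k, h1, by rw [← H42.card_mul_relIndex c.B_le_T, c.cardB, h2]⟩

theorem T_eq_B (h : Odd c.a) : c.T = c.B := le_antisymm (fun x hx => by
  by_contra hB
  exact Nat.not_even_iff_odd.2 h (c.out_even hx fun e => hB ((c.CT hx).1 e))) c.B_le_T

/-- an element of `T` outside `B` is not conjugate in `C(t)` to an element of `B` -/
theorem out_conj {x g : G} (hx : x ∈ c.T) (hB : x ∉ c.B) (hg : g * c.t = c.t * g) :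
    g * x * g⁻¹ ∉ c.B := fun h => by
  have hA := c.CNA hg
  refine hB (c.mem_B.2 ((c.mem_B.1 h).imp (fun e => c.AT ?_ hx) fun e =>
    c.AT ?_ (mul_mem c.t_mem_T hx)))
  · have := cm' hA (c.V_le_A e)
    rwa [show g⁻¹ * (g * x * g⁻¹) * g = x by group] at this
  · have := cm' hA (c.V_le_A e)
    rwa [show g⁻¹ * (c.t * (g * x * g⁻¹)) * g = g⁻¹ * (c.t * g) * x by group, ← hg,
      inv_mul_cancel_left] at this

private theorem inf_B {X : Subgroup G} (cX : ∀ x ∈ X, ∀ y ∈ X, x * y = y * x)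
    {x : G} (hx : x ∈ X) (xT : x ∈ c.T) :
    Nat.card (c.B ⊓ X : Subgroup G) ≤ 2 * Nat.card (c.V ⊓ 𝒞[x] : Subgroup G) := by
  have h1 : c.t ∈ 𝒩(c.V ⊓ 𝒞[x]) := tN c.toCtx0 (inf_le_left.trans (c.V_le_T.trans c.T_le))
  rw [← c.cardP h1 fun h => c.t_notMem_V h.1]
  refine card_le_of_le fun d hd => (c.mem_P h1).2 ((c.mem_B.1 hd.1).imp
    (fun e => ⟨e, mem_cent1.2 (cX d hd.2 x hx)⟩) fun e => ⟨e, ?_⟩)
  exact mul_mem (mem_cent1.2 (c.Tt xT).symm) (mem_cent1.2 (cX d hd.2 x hx))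

theorem elem_out {D : Subgroup G} (hD : D ≤ c.T) (sq : ∀ d ∈ D, d * d = 1) (h : ¬ D ≤ c.B) :
    Nat.card D ^ 2 ≤ 16 * 2 ^ c.a := by
  obtain ⟨x, hx, hB⟩ := SetLike.not_le_iff_exists.1 h
  have xV : x ∉ 𝒞(c.V) := fun e => hB ((c.CT (hD hx)).1 e)
  have h1 := c.inf_B (fun x hx y hy => H12.comm_of_sq (sq x hx) (sq y hy) (sq _ (mul_mem hx hy)))
    hx (hD hx)
  have h2 := c.out_card_le (hD hx) xV
  have h3 : c.B.relIndex D = 2 := NO6.relIndex_eq_two_of hx hB fun y hy => by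
    by_cases yB : y ∈ c.B
    · exact Or.inl yB
    refine Or.inr ((c.CT (mul_mem (inv_mem (hD hx)) (hD hy))).1 ?_)
    rw [inv_eq_of_mul_eq_one_right (sq x hx)]
    exact c.out_uniq (hD hx) xV (sq x hx ▸ one_mem _) (hD hy) (fun e => yB ((c.CT (hD hy)).1 e))
      (sq y hy ▸ one_mem _)
  have h4 := card_inf_mul_relIndex c.B D
  rw [h3] at h4
  calc Nat.card D ^ 2 ≤ (4 * Nat.card (c.V ⊓ 𝒞[x] : Subgroup G)) ^ 2 :=
        Nat.pow_le_pow_left (by omega) 2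
    _ ≤ 16 * 2 ^ c.a := by rw [mul_pow]; exact Nat.mul_le_mul_left _ h2

theorem elem_eq (h3 : 3 ≤ c.a) {D : Subgroup G} (hD : D ≤ c.T) (sq : ∀ d ∈ D, d * d = 1)
    (h : Nat.card D = 2 * 2 ^ c.a) : D = c.B := by
  by_cases hB : D ≤ c.B
  · exact eq_of_le_of_card_ge hB (by rw [h, c.cardB])
  have h1 := c.elem_out hD sq hB
  have h2 : 2 ^ 3 ≤ 2 ^ c.a := Nat.pow_le_pow_right (by norm_num) h3
  rw [h] at h1
  nlinarith

theorem U1_of_three (h3 : 3 ≤ c.a) (nc : ∀ g : G, g * c.t * g⁻¹ ∉ c.V) : c.U1 := by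
  intro D hD sq hc h
  have tD : c.t ∉ D := fun e => by
    obtain ⟨g, hg⟩ := h _ e
    exact c.t1 (conj_eq_one_iff.1 (hg.trans c.tt))
  have h1 := tN c.toCtx0 (hD.trans c.T_le)
  have h2 : c.P D = c.B := c.elem_eq h3 (sup_le hD (zpowers_le.2 c.t_mem_T))
    (fun _ hx => sqP c.toCtx0 (hD.trans c.T_le) sq h1 hx) (by rw [c.cardP h1 tD, hc])
  refine eq_of_le_of_card_ge (fun d hd => ?_) (by rw [hc, c.cardV])
  refine (c.mem_B.1 (h2 ▸ c.le_P D hd)).resolve_right fun e => ?_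
  obtain ⟨g, hg⟩ := h d hd
  exact nc g (hg ▸ e)

theorem U1_of_not (h : ¬ c.OF) (nc : ∀ g : G, g * c.t * g⁻¹ ∉ c.V) : c.U1 := by
  intro D hD sq hc h'
  refine eq_of_le_of_card_ge (fun d hd => ?_) (by rw [hc, c.cardV])
  obtain ⟨g, hg⟩ := h' d hd
  have h1 : g * c.t * g⁻¹ ∈ c.B := by
    by_contra e
    exact h ⟨g, hg ▸ mul_mem c.t_mem_T (hD hd), e⟩
  have := (c.mem_B.1 h1).resolve_left (nc g)
  rwa [hg, c.tt'] at this

theorem nc_of_ne (h : c.T ≠ c.B) (g : G) : g * c.t * g⁻¹ ∉ c.V := by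
  rintro ⟨b, hb⟩
  have b0 : b ≠ 0 := fun e => c.t1 (conj_eq_one_iff.1 (by rw [hb, e, Ctx0.z_zero]))
  obtain ⟨i, hi⟩ := c.gen' (inv_ne_zero b0)
  have h1 : c.h ^ i * g * c.t * (c.h ^ i * g)⁻¹ = c.z 1 := by
    calc _ = c.h ^ i * (g * c.t * g⁻¹) * (c.h ^ i)⁻¹ := by group
      _ = _ := by rw [hb, c.h_pow_z, hi, inv_mul_cancel₀ b0]
  obtain ⟨k, hk, hT⟩ := TL2.two_le c.syl c.syl.isP (g := c.h ^ i * g)
    (by rw [h1]; exact fun x hx => mem_cent1.2 (c.Tz hx))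
  rw [h1] at hk
  obtain ⟨x, hx, hB⟩ := SetLike.not_le_iff_exists.1 fun e => h (le_antisymm e c.B_le_T)
  obtain ⟨n, hn⟩ := c.syl.isP ⟨x, hx⟩
  obtain ⟨j, h2, h3⟩ := exists_pow_sq (H := 𝒞(c.V)) (n := n) (fun e => hB ((c.CT hx).1 e))
    (by rw [show x ^ 2 ^ n = 1 from congrArg Subtype.val hn]; exact one_mem _)
  have yT := pow_mem hx (2 ^ j)
  obtain ⟨u, hu, e⟩ := c.out_free yT h2 h3 (c.z_mem 1) (c.Tz yT).symm
  have h4 := c.Tcomm (hT (conj_mem_cj.2 yT)) (hT (conj_mem_cj.2 (c.V_le_T hu)))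
  refine c.t_notMem_V ?_
  rw [← hk, e]
  convert h4 using 1
  rw [show (k * u * k⁻¹)⁻¹ = k * u⁻¹ * k⁻¹ by group, inv_eq_of_mul_eq_one_right (c.sqV hu)]
  group

theorem not_conj_big {X : Subgroup G} (hX : IsPGroup 2 X) (cX : ∀ x ∈ X, ∀ y ∈ X, x * y = y * x)
    {g : G} (h : X ≤ 𝒞[g * c.t * g⁻¹]) : Nat.card X < (2 ^ c.a) ^ 2 := by
  obtain ⟨k, -, hT⟩ := TL2.two_le c.syl hX h
  have h4 := four_le c.toCtx0
  rw [← card_cj k]
  have cY : ∀ x ∈ cj k X, ∀ y ∈ cj k X, x * y = y * x := fun x hx y hy => by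
    obtain ⟨x', hx', rfl⟩ := mem_cj'.1 hx
    obtain ⟨y', hy', rfl⟩ := mem_cj'.1 hy
    rw [conj_mul, conj_mul, cX x' hx' y' hy']
  generalize cj k X = Y at hT cY
  by_cases hB : Y ≤ c.B
  · have := card_le_of_le hB
    rw [c.cardB] at this
    nlinarith
  obtain ⟨x, hx, hB⟩ := SetLike.not_le_iff_exists.1 hB
  have h1 := c.inf_B cY hx (hT hx)
  have h2 := c.out_card_le (hT hx) fun e => hB ((c.CT (hT hx)).1 e)
  obtain ⟨j, h3, h5⟩ := c.relB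
  have h6 : c.B.relIndex Y ≤ c.a :=
    (relIndex_le_of_le_right hT (by rw [h5]; positivity)).trans
      (h5 ▸ Nat.le_of_dvd (by have := c.ha; omega) h3)
  have h7 : c.a < 2 ^ c.a := Nat.lt_two_pow_self
  have h8 : 2 * Nat.card (c.V ⊓ 𝒞[x] : Subgroup G) ≤ 2 ^ c.a := by
    by_contra! h9
    nlinarith
  rw [← card_inf_mul_relIndex c.B Y]
  calc _ ≤ 2 ^ c.a * c.a := Nat.mul_le_mul (h1.trans h8) h6
    _ < _ := by rw [pow_two]; exact Nat.mul_lt_mul_of_pos_left h7 (by positivity)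

theorem lvV : c.Lv c.V 0 where
  p2 := c.p2V
  VQ := le_rfl
  ct := fun _ h _ => h
  nN := inf_le_right
  inv := fun x hx => by
    rw [c.tA (c.V_le_A hx), mul_assoc, c.tt, mul_one, inv_eq_of_mul_eq_one_right (c.sqV hx)]
  ex := fun x hx => by simpa [pow_two] using c.sqV hx
  sur := fun b => ⟨c.z b, c.z_mem b, by simp⟩

theorem exists_D2 (h2 : c.a = 2) (nc : ∀ g : G, g * c.t * g⁻¹ ∉ c.V) {f : G} (hf : f ∈ c.T)
    (ff : f * f = 1) (fB : f ∉ c.B) : ∃ v, c.D2 f v := by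
  obtain ⟨u, hu, e⟩ := c.out_free hf (fun e => fB ((c.CT hf).1 e)) (ff ▸ one_mem _) (c.z_mem 1)
    (c.Tz hf).symm
  refine ⟨u, h2, hf, ff, fB, hu, ?_, nc⟩
  rw [c.commV hu (c.z_mem 1), e, mul_assoc _ u u, c.sqV hu, mul_one,
    inv_eq_of_mul_eq_one_right ff]

end Ctx

end Cfsg.Agent.L2S
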