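/-
Standard subgroups of type `L₂(2^a)` (S1773): further records. See `notes/L2S.md`.
-/
import Cfsg.Agent.L2S.Defs

set_option autoImplicit false
set_option linter.unusedSectionVars false

namespace Cfsg.Agent.L2S

open Cfsg Subgroup H49
open H42 (SylIn)

variable {G F : Type*} [Group G] [Field F]

namespace Ctx0

variable (c : Ctx0 G F)

/-- the centralizers in `E` of the involutions of `V` normalize `V` -/
def CNV : Prop := ∀ b : F, b ≠ 0 → c.E ⊓ 𝒞[c.z b] ≤ 𝒩(c.V)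

/-- `E` has one class of involutions -/
def One : Prop := ∀ x ∈ c.E, x * x = 1 → x ≠ 1 → ∃ g ∈ c.E, g * x * g⁻¹ = c.z 1

/-- the stabilizer of `z b` in `N_E(B)` -/
def M8 (b : F) : Subgroup G := c.E ⊓ 𝒩(c.B) ⊓ 𝒞[c.z b]

/-- `q = 8`, `|S| = 64`, `Z(S) = ⟨z b⟩`, and `R` is the extraspecial subgroup of order `32` -/
structure Z8 (S R : Subgroup G) (b : F) : Prop extends c.S8 c.V S 0 where
  one : c.One
  b0 : b ≠ 0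
  cen : ∀ x ∈ S, x * c.z b = c.z b * x
  memR : ∀ x, x ∈ R ↔ x ∈ S ∧ ∀ d, c.L x d = d ∨ c.L x d = d + b
  cardR : Nat.card R = 32
  sqR : ∀ x ∈ R, x * x = 1 ∨ x * x = c.z b
  ex4 : ∃ x ∈ R, x * x ≠ 1
  cR : ∀ x ∈ S, x ∈ 𝒞(R) → x = 1 ∨ x = c.z b
  nR : c.M8 b ≤ 𝒩(R)
  irr : ∀ U : Subgroup G, U ≤ c.V → c.M8 b ≤ 𝒩(U) → U ≤ zpowers (c.z b) ∨ U = c.V
  irr2 : ∀ X : Subgroup G, c.M8 b ≤ 𝒩(X) → (∃ x ∈ X, x ∈ S ∧ x ∉ c.V) → c.V ≤ X → R ≤ X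
  core : ∀ X : Subgroup G, X ≤ S → c.M8 b ≤ 𝒩(X) → X ≤ R
  fr : ∀ x ∈ S, x ∉ R →
    Nat.card {w : G // w ∈ R ∧ x * w * x⁻¹ * w⁻¹ ∈ zpowers (c.z b)} = 8
  out : ∃ u ∈ S, u ∉ R ∧ u * u = 1
  plane : ∀ x ∈ S, x ∉ c.V → x * x ∈ c.V → ∃ d e : F, d ≠ 0 ∧ e ≠ 0 ∧ d ≠ e ∧
    x * c.t * x⁻¹ * c.t = c.z d ∧ (∃ v ∈ c.V, x * v * x⁻¹ * v = c.z e) ∧
    ∀ v ∈ c.V, v * x = x * v ↔ v = 1 ∨ v = c.z d ∨ v = c.z e ∨ v = c.z (d + e)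

end Ctx0

/-- an automorphism of order two whose centralizer looks like `S₅` at the prime five -/
structure IdD {X : Type*} [Group X] (τ : MulAut X) (y y' k : X) : Prop where
  ττ : ∀ x, τ (τ x) = x
  y5 : orderOf y = 5
  y5' : orderOf y' = 5
  two : orderOf (y * y') = 2
  conj : ∃ g : X, y' = g * y * g⁻¹
  ky : k * y * k⁻¹ = y ^ 2
  τy : τ y = y
  τy' : τ y' = y'
  cen : ∀ x, τ x = x → x * y = y * x →
    ∃ (i : ℕ) (o : X), x = y ^ i * o ∧ o * y = y * o ∧ o * y' = y' * o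

end Cfsg.Agent.L2S
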