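import Cfsg.Agent.L2S.Defs
import Cfsg.Agent.H46.NormalFour

set_option autoImplicit false
set_option linter.unusedSectionVars false

namespace Cfsg.Agent.L2S

open Cfsg Subgroup H49
open H42 (SylIn exists_sylIn)
open TL2 (cm cm' mn mem_sup_t p2_zpowers p2_sup)

variable {G F : Type*} [Group G] [Finite G] [Field F] [Fintype F] [CharP F 2]

/-- a normal four-group -/
structure PL4 {P : Type*} [Group P] (z u : P) : Prop where
  z1 : z ≠ 1
  zz : z * z = 1
  zc : ∀ g, Commute g z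
  uu : u * u = 1
  u1 : u ≠ 1
  uz : u ≠ z
  cj : ∀ g, Commute g u ∨ g * u = u * z * g

theorem PL_cen {P : Type*} [Group P] [Finite P] (hP : IsPGroup 2 P) (U : Subgroup P) [U.Normal]
    (h : U ≠ ⊥) : ∃ z ∈ U, z ≠ 1 ∧ ∀ g, Commute g z := by
  obtain ⟨v, hv, hv1⟩ := ((hP.to_subgroup ⊤).map (MulAut.conjNormal (H := U))
    ).exists_fixed_point_of_prime_dvd_card_of_fixed_point U ((hP.to_subgroup U).card_eq_or_dvd.resolve_left
      fun e => h (card_eq_one.mp e)) (a := 1) (fun g => map_one (g : MulAut U))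
  exact ⟨v, v.2, fun e => hv1 (Subtype.ext e.symm), fun g =>
    mul_inv_eq_iff_eq_mul.mp (congrArg Subtype.val (hv ⟨_, g, mem_top g, rfl⟩))⟩

theorem PL_four {P : Type*} [Group P] [Finite P] (hP : IsPGroup 2 P) {A : Subgroup P}
    (sq : ∀ x ∈ A, x * x = 1) (h : 4 < Nat.card A) : ∃ z u : P, PL4 z u := by
  obtain ⟨U, hn, hU, h4⟩ := H46.exists_normal_four hP (A := A) ⟨⟨⟨fun a b => Subtype.ext
    (H12.comm_of_sq (sq a a.2) (sq b b.2) (sq _ (mul_mem a.2 b.2)))⟩⟩,
    fun x hx => by rw [pow_two, sq x hx]⟩ h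
  have sU : ∀ x ∈ U, x * x = 1 := fun x hx => by rw [← pow_two, hU.2 x hx]
  obtain ⟨z, hz, z1, zc⟩ := PL_cen hP U (fun e => by simp [e] at h4)
  obtain ⟨u, hu, u1, uz, -⟩ := TL2.exists_third (V := U) h4.ge z z
  refine ⟨z, u, z1, sU z hz, zc, sU u hu, u1, uz, fun g => ?_⟩
  have h2 : (zpowers z).relIndex U = 2 := by
    have := card_mul_relIndex (zpowers_le.2 hz)
    rw [Nat.card_zpowers, orderOf_eq_prime (by rw [pow_two, sU z hz]) z1, h4] at this
    omega
  have h3 := (mul_mem_iff_of_index_two h2 (a := ⟨u, hu⟩) (b := ⟨_, hn.conj_mem u hu g⟩)).2 (by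
    simp [mem_subgroupOf, H42.mem_zpowers_of_mul_self (sU z hz), u1, uz,
      mul_inv_eq_iff_eq_mul, ← (zc g).eq])
  rw [mem_subgroupOf, H42.mem_zpowers_of_mul_self (sU z hz)] at h3
  have ui := inv_eq_of_mul_eq_one_right (sU u hu)
  exact h3.imp (fun e => mul_inv_eq_iff_eq_mul.mp (ui.symm.trans (inv_eq_of_mul_eq_one_right e)).symm)
    fun e => mul_inv_eq_iff_eq_mul.mp ((eq_inv_mul_iff_mul_eq.mpr e).trans (by rw [ui]))

theorem PL_two {P : Type*} [Group P] [Finite P] (X Y : Subgroup P)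
    (h : ∀ x ∈ X, ∀ y ∈ X, x ∉ Y → y ∉ Y → x * y ∈ Y) :
    Nat.card X ≤ 2 * Nat.card (X ⊓ Y : Subgroup P) := by
  have h1 : Y.relIndex X ∣ 2 := index_dvd_two_iff.2 (by
    by_cases h2 : ∃ a : X, (a : P) ∉ Y
    · obtain ⟨a, ha⟩ := h2
      exact ⟨a, fun b => or_iff_not_imp_right.2 fun hb => h b b.2 a a.2 hb ha⟩
    · exact ⟨1, fun b => Or.inr (not_not.1 fun hb => h2 ⟨b, hb⟩)⟩)
  rw [← card_mul_relIndex (inf_le_left (a := X) (b := Y)), inf_relIndex_left, mul_comm]
  exact Nat.mul_le_mul_right _ (Nat.le_of_dvd two_pos h1)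

theorem PL_card2 {P : Type*} [Group P] [Finite P] {X : Subgroup P} {a : P}
    (h : ∀ x ∈ X, x = 1 ∨ x = a) : Nat.card X ≤ 2 := by
  have := PL_two X ⊥ fun x hx y hy h1 h2 => by
    have h3 := (h _ (mul_mem hx hy)).resolve_right fun e => h2 (by
      rw [(h x hx).resolve_left h1] at e
      exact mul_eq_left.1 e)
    exact h3
  simpa using this

namespace PL4

variable {P : Type*} [Group P] [Finite P] {z u : P} (H : PL4 z u)

/-- the four-group -/
def U (_ : PL4 z u) : Subgroup P := zpowers z ⊔ zpowers u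

include H

theorem mem {x : P} : x ∈ H.U ↔ x = 1 ∨ x = z ∨ x = u ∨ x = u * z := by
  rw [U, mem_sup_t H.uu (mn fun y hy => by
    obtain ⟨k, rfl⟩ := mem_zpowers_iff.1 hy
    rwa [((H.zc u).zpow_right k).eq, mul_inv_cancel_right]),
    H42.mem_zpowers_of_mul_self H.zz, H42.mem_zpowers_of_mul_self H.zz, or_assoc,
    ← eq_inv_mul_iff_mul_eq, ← eq_inv_mul_iff_mul_eq, inv_eq_of_mul_eq_one_right H.uu, mul_one]

theorem card (X : Subgroup P) : Nat.card (X ⊓ H.U : Subgroup P) ≤ 4 := by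
  have h1 := PL_two (X ⊓ H.U) (zpowers z) fun x hx y hy h1 h2 => by
    rw [H42.mem_zpowers_of_mul_self H.zz] at h1 h2 ⊢
    have e1 : u * z * u = z := by rw [(H.zc u).eq, mul_assoc, H.uu, mul_one]
    rcases H.mem.1 hx.2 with rfl | rfl | rfl | rfl <;> rcases H.mem.1 hy.2 with rfl | rfl | rfl | rfl <;>
      simp_all [← mul_assoc, H.uu, H.zz]
  have h2 := PL_card2 (X := X ⊓ H.U ⊓ zpowers z) fun x hx =>
    (H42.mem_zpowers_of_mul_self H.zz).1 hx.2
  omega

theorem out {x y : P} (hx : ¬ Commute x u) (hy : ¬ Commute y u) : Commute (x * y) u := by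
  rw [Commute, SemiconjBy, mul_assoc, (H.cj y).resolve_left hy, ← mul_assoc, ← mul_assoc,
    (H.cj x).resolve_left hx, mul_assoc (u * z), (H.zc x).eq, ← mul_assoc, mul_assoc u, H.zz,
    mul_one, mul_assoc]

theorem two (X : Subgroup P) : Nat.card X ≤ 2 * Nat.card (X ⊓ 𝒞[u] : Subgroup P) :=
  PL_two X _ fun _ _ _ _ h1 h2 => mem_cent1.2 (H.out (fun e => h1 (mem_cent1.2 e))
    fun e => h2 (mem_cent1.2 e))

end PL4

variable {P : Type*} [Group P] [Finite P] (hP : IsPGroup 2 P) {t f : P} (tt : t * t = 1)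
  (ft : f * t = t * f) (hC : ∀ x, x * t = t * x → ∃ i : ℕ, x = f ^ i ∨ x = t * f ^ i)
  {X : Subgroup P} (sq : ∀ x ∈ X, x * x = 1)
include hP tt ft hC

theorem PL_comm {a b : P} (ha : Commute a t) (hb : Commute b t) : Commute a b := by
  have c : Commute f t := ft
  obtain ⟨i, rfl | rfl⟩ := hC a ha
  · obtain ⟨j, rfl | rfl⟩ := hC b hb
    · exact Commute.pow_pow_self f i j
    · exact (c.pow_left i).mul_right (Commute.pow_pow_self f i j)
  · obtain ⟨j, rfl | rfl⟩ := hC b hb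
    · exact hb.symm.mul_left (Commute.pow_pow_self f i j)
    · exact ha.mul_right ((c.pow_left j).symm.mul_left (Commute.pow_pow_self f i j))

theorem PL_om {a b : P} (ha : Commute a t) (hb : Commute b t) (aa : a * a = 1) (bb : b * b = 1) :
    a = 1 ∨ a = t ∨ b = 1 ∨ b = t ∨ a = b ∨ a = t * b := by
  have k1 : ∀ i, f ^ i * f ^ i = 1 → f ^ i = 1 ∨ 2 * (i % orderOf f) = orderOf f := fun i h => by
    refine or_iff_not_imp_left.2 fun h1 => Nat.eq_of_dvd_of_lt_two_mul (fun e => h1 ?_) ?_ ?_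
    · rw [← pow_mod_orderOf, show i % orderOf f = 0 by omega, pow_zero]
    · rw [orderOf_dvd_iff_pow_eq_one, two_mul, pow_add, pow_mod_orderOf, h]
    · have := Nat.mod_lt i (orderOf_pos f); omega
  have k2 : ∀ i j, f ^ i * f ^ i = 1 → f ^ j * f ^ j = 1 → f ^ i = 1 ∨ f ^ j = 1 ∨ f ^ i = f ^ j :=
    fun i j hi hj => (k1 i hi).imp_right fun h1 => (k1 j hj).imp_right fun h2 => by
      rw [← pow_mod_orderOf, show i % orderOf f = j % orderOf f by omega, pow_mod_orderOf]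
  have k3 : ∀ i, t * f ^ i * (t * f ^ i) = f ^ i * f ^ i := fun i => by
    rw [(Commute.pow_left ft i).mul_mul_mul_comm, tt, one_mul]
  obtain ⟨i, rfl | rfl⟩ := hC a ha <;> obtain ⟨j, rfl | rfl⟩ := hC b hb <;>
    rcases k2 i j (by first | exact aa | exact k3 i ▸ aa) (by first | exact bb | exact k3 j ▸ bb)
      with h | h | h <;> simp [h, ← mul_assoc, tt]

variable {z u : P} (H : PL4 z u)
include H

theorem PL_in (h : Commute t u) : (∀ a, Commute a t → a * a = 1 → a ∈ H.U) ∧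
    ∀ x y, ¬ Commute x t → ¬ Commute y t → Commute (x * y) t := by
  have h1 : t = z ∨ t = u ∨ t = u * z := by
    rcases PL_om hP tt ft hC h.symm (H.zc t).symm H.uu H.zz with e | e | e | e | e | e
    exacts [(H.u1 e).elim, .inr (.inl e.symm), (H.z1 e).elim, .inl e.symm, (H.uz e).elim,
      .inr (.inr (by rw [e, mul_assoc, H.zz, mul_one]))]
  have tU : t ∈ H.U := H.mem.2 (.inr h1)
  have zU : z ∈ H.U := H.mem.2 (by simp)
  have uU : u ∈ H.U := H.mem.2 (by simp)
  refine ⟨fun a ha aa => ?_, fun x y hx hy => ?_⟩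
  · rcases PL_om hP tt ft hC ha (H.zc t).symm aa H.zz with e | e | e | e | e | e
    · exact e ▸ one_mem _
    · exact e ▸ tU
    · exact (H.z1 e).elim
    · rcases PL_om hP tt ft hC ha h.symm aa H.uu with e' | e' | e' | e' | e' | e'
      exacts [e' ▸ one_mem _, e' ▸ tU, (H.u1 e').elim, (H.uz (e'.trans e.symm)).elim, e' ▸ uU,
        e' ▸ mul_mem tU uU]
    · exact e ▸ zU
    · exact e ▸ mul_mem tU zU
  · rcases h1 with rfl | rfl | rfl
    · exact H.zc _
    · exact H.out hx hy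
    · exact (H.out (fun e => hx (e.mul_right (H.zc _))) fun e => hy (e.mul_right (H.zc _))).mul_right
        (H.zc _)

theorem PL_c0 (h : ¬ Commute t u) {a : P} (ha : Commute a t) (hu : Commute a u) (aa : a * a = 1) :
    a = 1 ∨ a = z := by
  rcases PL_om hP tt ft hC ha (H.zc t).symm aa H.zz with e | e | e | e | e | e
  exacts [.inl e, (h (e ▸ hu)).elim, (H.z1 e).elim, (h (e ▸ (H.zc u).symm)).elim, .inr e,
    (h (by simpa [e, mul_assoc, H.zz] using hu.mul_left (H.zc u).symm)).elim]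

theorem PL_inv (h : ¬ Commute t u) {e : P} (hu : Commute e u) (ee : e * e = 1) (eU : e ∉ H.U) :
    (e * t) ^ 4 ≠ 1 ∧ ∃ ω, Commute ω t ∧ Commute ω u ∧ ω * ω = z ∧ e * ω = ω * z * e := by
  have tu := (H.cj t).resolve_left h
  have ti := inv_eq_of_mul_eq_one_right tt
  have ei := inv_eq_of_mul_eq_one_right ee
  have n1 : ¬ Commute (e * t) u := fun c => h (by simpa [← mul_assoc, ee] using hu.mul_left c)
  obtain ⟨w, hw⟩ : ∃ w, w = e * t * (e * t) := ⟨_, rfl⟩
  have wu : Commute w u := hw ▸ H.out n1 n1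
  have wt : SemiconjBy t w w⁻¹ := by
    rw [SemiconjBy, hw, mul_inv_rev, mul_inv_rev, ti, ei]; group
  have we : SemiconjBy e w w⁻¹ := by
    rw [SemiconjBy, hw, mul_inv_rev, mul_inv_rev, ti, ei]
    simp only [← mul_assoc, ee, one_mul]
    rw [mul_assoc _ e e, ee, mul_one]
  have h4 : w * w ≠ 1 := fun ww => eU (by
    rw [inv_eq_of_mul_eq_one_right ww] at wt
    rcases PL_c0 hP tt ft hC H h (Commute.symm wt) wu ww with e1 | e1
    · have := inv_eq_of_mul_eq_one_right (hw ▸ e1)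
      rw [mul_inv_rev, ti, ei] at this
      rcases PL_c0 hP tt ft hC H h this.symm hu ee with e2 | e2 <;> simp [H.mem, e2]
    · have e2 : e * t = z * (t * e) := by
        rw [← e1, hw]
        simp only [mul_assoc]
        rw [← mul_assoc t t, tt, one_mul, ee, mul_one]
      have e3 : Commute (u * e) t := by
        rw [Commute, SemiconjBy, mul_assoc, e2, ← mul_assoc t, tu]; group
      rcases PL_c0 hP tt ft hC H h e3 ((Commute.refl u).mul_left hu) (by
        rw [hu.mul_mul_mul_comm, H.uu, ee, mul_one]) with e4 | e4 <;>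
        simp [H.mem, eq_inv_mul_iff_mul_eq.2 e4, inv_eq_of_mul_eq_one_right H.uu])
  refine ⟨fun e => h4 (by rw [← e, hw]; simp only [pow_succ, pow_zero, one_mul, mul_assoc]), ?_⟩
  obtain ⟨n, hn⟩ := hP w
  obtain ⟨k, k1, k2⟩ : ∃ k : ℕ, w ^ k * w ^ k ≠ 1 ∧ w ^ k * w ^ k * (w ^ k * w ^ k) = 1 := by
    induction n with
    | zero => exact (h4 (by rw [pow_zero, pow_one] at hn; rw [hn, one_mul])).elim
    | succ n ih =>
      by_cases h5 : w ^ 2 ^ n = 1
      · exact ih h5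
      cases n with
      | zero => exact (h4 (by rw [← hn, ← pow_two]; rfl)).elim
      | succ n =>
        refine ⟨2 ^ n, by rwa [← pow_add, ← two_mul, ← pow_succ'], ?_⟩
        rw [← hn, ← pow_add, ← pow_add]; congr 1; ring
  have vt := wt.pow_right k
  have ve := we.pow_right k
  have vu := wu.pow_left k
  rw [inv_pow] at vt ve
  generalize w ^ k = v at k1 k2 vt ve vu
  have v2 : v * v = z := (PL_c0 hP tt ft hC H h (by
    have := vt.mul_right vt
    rw [← mul_inv_rev, inv_eq_of_mul_eq_one_right k2] at this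
    exact Commute.symm this) (vu.mul_left vu) k2).resolve_left k1
  have vi : v⁻¹ = v * z := inv_eq_of_mul_eq_one_right (by rw [← mul_assoc, v2, H.zz])
  rw [vi] at vt ve
  refine ⟨v * u, ?_, vu.mul_left (Commute.refl u), ?_, ?_⟩
  · rw [Commute, SemiconjBy, ← mul_assoc t, vt.eq, mul_assoc _ t, tu, mul_assoc v z, ← mul_assoc z,
      ← mul_assoc z, ← (H.zc u).eq, mul_assoc u, H.zz, mul_one, mul_assoc]
  · rw [vu.symm.mul_mul_mul_comm, v2, H.uu, mul_one]
  · rw [← mul_assoc, ve.eq, mul_assoc _ e, hu.eq, mul_assoc v u, (H.zc u).eq]; group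

include sq

theorem PL_out (h : ¬ Commute t u) :
    Nat.card (X ⊓ 𝒞[u] : Subgroup P) ≤ 2 * Nat.card (X ⊓ 𝒞[u] ⊓ H.U : Subgroup P) := by
  refine PL_two _ _ fun x hx y hy h1 h2 => by_contra fun h3 => ?_
  obtain ⟨-, ω, a1, a2, a3, a4⟩ := PL_inv hP tt ft hC H h (mem_cent1.1 hx.2) (sq x hx.1) h1
  have key : ∀ e ∈ X ⊓ 𝒞[u], e ∉ H.U → e * ω = ω * z * e := fun e he eU => by
    obtain ⟨-, η, b1, b2, b3, b4⟩ := PL_inv hP tt ft hC H h (mem_cent1.1 he.2) (sq e he.1) eU
    have ωi : ω⁻¹ = ω * z := inv_eq_of_mul_eq_one_right (by rw [← mul_assoc, a3, H.zz])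
    rcases PL_c0 hP tt ft hC H h (a1.mul_left b1) (a2.mul_left b2) (by
      rw [(PL_comm hP tt ft hC b1 a1).mul_mul_mul_comm, a3, b3, H.zz]) with e1 | e1
    · rw [← inv_eq_of_mul_eq_one_right e1, ωi, mul_assoc ω z z, H.zz, mul_one] at b4
      rw [mul_assoc, ← (H.zc e).eq, ← mul_assoc, ← b4, mul_assoc, mul_assoc, H.zz, mul_one]
    · rw [← a3, mul_right_inj] at e1
      exact e1 ▸ b4
  have h4 := key _ (mul_mem hx hy) h3
  rw [mul_assoc, key y hy h2, ← mul_assoc, ← mul_assoc, a4, mul_assoc _ x z, (H.zc x).eq] at h4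
  exact H.z1 (by simpa [mul_assoc] using h4)

omit H in
theorem pl3 : Nat.card X ≤ 8 := by
  by_contra h0
  obtain ⟨z, u, H⟩ := PL_four hP sq (by omega)
  by_cases h : Commute t u
  · obtain ⟨h1, h2⟩ := PL_in hP tt ft hC H h
    have h3 := PL_two X 𝒞[t] fun x _ y _ a b => mem_cent1.2 (h2 x y (fun e => a (mem_cent1.2 e))
      fun e => b (mem_cent1.2 e))
    have h4 := card_le_of_le (le_inf inf_le_left fun x (hx : x ∈ X ⊓ 𝒞[t]) =>
      h1 x (mem_cent1.1 hx.2) (sq x hx.1))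
    have h5 := H.card X
    omega
  have h1 := PL_out hP tt ft hC sq H h
  by_cases h2 : X ≤ 𝒞[u]
  · rw [inf_eq_left.2 h2] at h1
    have := H.card X
    omega
  obtain ⟨x, hx, h3⟩ := SetLike.not_le_iff_exists.1 h2
  have h4 := PL_card2 (X := X ⊓ 𝒞[u] ⊓ H.U) (a := z) fun y hy => by
    have c : Commute x y := H12.comm_of_sq (sq x hx) (sq y hy.1.1) (sq _ (mul_mem hx hy.1.1))
    rcases H.mem.1 hy.2 with e | e | rfl | rfl
    exacts [.inl e, .inr e, (h3 (mem_cent1.2 c)).elim, (h3 (mem_cent1.2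
      (by simpa [mul_assoc, H.zz] using (c.mul_right (H.zc x)).eq))).elim]
  have := H.two X
  omega

omit H in
theorem pl2 (h : ∀ x ∈ X, x ≠ 1 → ∀ g : P, g * x * g⁻¹ * t ≠ t * (g * x * g⁻¹)) :
    Nat.card X ≤ 2 ∨ (Nat.card X = 4 ∧ ∃ e ∈ X, (e * t) ^ 4 ≠ 1) := by
  refine or_iff_not_imp_left.2 fun h0 => ?_
  have h' : ∀ x ∈ X, Commute x t → x = 1 := fun x hx c => by_contra fun e =>
    h x hx e 1 (by simpa using c.eq)
  have hX : X ≠ ⊥ := fun e => h0 (by simp [e])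
  obtain ⟨y, -, y1, yc⟩ := PL_cen hP ⊤ fun e => hX (le_bot_iff.1 (e ▸ le_top))
  obtain ⟨v, hv, v2⟩ : ∃ v ∈ zpowers y, orderOf v = 2 := by
    obtain ⟨v, hv⟩ := exists_prime_orderOf_dvd_card' (G := zpowers y) 2
      ((hP.to_subgroup _).card_eq_or_dvd.resolve_left fun e => y1 (zpowers_eq_bot.1 (card_eq_one.1 e)))
    exact ⟨v, v.2, by rwa [orderOf_coe]⟩
  have vc : ∀ g, Commute g v := fun g => by
    obtain ⟨k, rfl⟩ := mem_zpowers_iff.1 hv
    exact (yc g).zpow_right k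
  have vv : v * v = 1 := by rw [← pow_two, ← v2, pow_orderOf_eq_one]
  have vN : v ∈ 𝒩(X) := mn fun x hx => by rwa [← (vc x).eq, mul_inv_cancel_right]
  have h1 := TL2.card_two le_sup_left (NO6.relIndex_sup_zpowers vN (vv ▸ one_mem X) fun e => by
    rw [h' v e (vc t).symm, orderOf_one] at v2
    omega)
  obtain ⟨z, u, H⟩ := PL_four hP (A := X ⊔ zpowers v) (fun x hx => by
    rcases (mem_sup_t vv vN).1 hx with e | e
    · exact sq x e
    · have := sq _ e
      rwa [(vc x).mul_mul_mul_comm, vv, one_mul] at this) (by omega)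
  by_cases h2 : Commute t u
  · have h3 := PL_two X ⊥ fun x hx y hy a b => h' _ (mul_mem hx hy)
      ((PL_in hP tt ft hC H h2).2 x y (fun e => a (h' x hx e)) fun e => b (h' y hy e))
    simp at h3
    omega
  have zX : z ∉ X := fun e => H.z1 (h' z e (H.zc t).symm)
  have h3 := PL_out hP tt ft hC sq H h2
  have h4 := H.two X
  have h5 : Nat.card X ≤ 4 ∧ (X ⊓ 𝒞[u] ≤ H.U → Nat.card X ≤ 2) := by
    by_cases h6 : X ≤ 𝒞[u]
    · rw [inf_eq_left.2 h6] at h3 ⊢
      have h7 : Nat.card (X ⊓ H.U : Subgroup P) ≤ 2 := by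
        by_cases h8 : u ∈ X
        · refine PL_card2 (a := u) fun x hx => ?_
          rcases H.mem.1 hx.2 with e | rfl | e | rfl
          exacts [.inl e, (zX hx.1).elim, .inr e, (zX ((mul_mem_cancel_left h8).1 hx.1)).elim]
        · refine PL_card2 (a := u * z) fun x hx => ?_
          rcases H.mem.1 hx.2 with e | rfl | rfl | e
          exacts [.inl e, (zX hx.1).elim, (h8 hx.1).elim, .inr e]
      exact ⟨by omega, fun e => by rwa [inf_eq_left.2 e] at h7⟩
    obtain ⟨x, hx, h7⟩ := SetLike.not_le_iff_exists.1 h6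
    have h8 : X ⊓ 𝒞[u] ⊓ H.U = ⊥ := (eq_bot_iff_forall _).2 fun y hy => by
      have c : Commute x y := H12.comm_of_sq (sq x hx) (sq y hy.1.1) (sq _ (mul_mem hx hy.1.1))
      rcases H.mem.1 hy.2 with e | rfl | rfl | rfl
      exacts [e, (zX hy.1.1).elim, (h7 (mem_cent1.2 c)).elim, (h7 (mem_cent1.2
        (by simpa [mul_assoc, H.zz] using (c.mul_right (H.zc x)).eq))).elim]
    rw [h8, card_bot] at h3
    exact ⟨by omega, fun e => by
      rw [inf_eq_left.2 e] at h8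
      rwa [h8, card_bot] at h4⟩
  obtain ⟨e, he, eU⟩ := SetLike.not_le_iff_exists.1 fun e => h0 (h5.2 e)
  have h6 := (hP.to_subgroup X).card_eq_or_dvd
  exact ⟨by omega, e, he.1, (PL_inv hP tt ft hC H h2 (mem_cent1.1 he.2) (sq e he.1) eU).1⟩

end Cfsg.Agent.L2S
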