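import Cfsg.Agent.L2S.Base2

set_option autoImplicit false
set_option linter.unusedSectionVars false

namespace Cfsg.Agent.L2S

open Cfsg Subgroup H49
open H42 (SylIn exists_sylIn)
open TL2 (cm cm' mn mem_sup_t p2_zpowers p2_sup)

variable {G F : Type*} [Group G] [Finite G] [Field F] [Fintype F] [CharP F 2]

/-- an involution normalizing a non-trivial `2`-group has a non-trivial fixed point -/
theorem FR_fix {X : Subgroup G} (hX : IsPGroup 2 X) (h1 : X ≠ ⊥) {t : G} (ht : t ∈ 𝒩(X))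
    (tt : t * t = 1) : ∃ x ∈ X, x ≠ 1 ∧ x * t = t * x := by
  let φ : MulAut X := X.normalizerMonoidHom ⟨t, ht⟩
  have h2 : φ * φ = 1 := by
    rw [← map_mul, ← map_one X.normalizerMonoidHom]
    exact congrArg _ (Subtype.ext tt)
  obtain ⟨v, hv, hv1⟩ := (p2_zpowers h2).exists_fixed_point_of_prime_dvd_card_of_fixed_point X
    (hX.card_eq_or_dvd.resolve_left fun h => h1 (card_eq_one.mp h)) (a := 1)
    (fun g => map_one (g : MulAut X))
  exact ⟨v, v.2, fun e => hv1 (Subtype.ext e.symm),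
    (mul_inv_eq_iff_eq_mul.mp (congrArg Subtype.val (hv ⟨φ, mem_zpowers φ⟩))).symm⟩

/-- a coset of a fixed-point-free element is one class -/
theorem FR_coset {Q : Subgroup G} {r : G} (hr : r ∈ 𝒩(Q)) (fp : ∀ x ∈ Q, x * r = r * x → x = 1)
    {q : G} (hq : q ∈ Q) : ∃ w ∈ Q, q * r = w * r * w⁻¹ := by
  let m : Q → Q := fun w => ⟨w * (r * (w : G)⁻¹ * r⁻¹), mul_mem w.2 (cm hr (inv_mem w.2))⟩
  have hm : Function.Injective m := fun a b e => by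
    have e1 : (a : G) * (r * (a : G)⁻¹ * r⁻¹) = b * (r * (b : G)⁻¹ * r⁻¹) := congrArg Subtype.val e
    have := fp _ (mul_mem (inv_mem b.2) a.2) (by
      calc _ = (b : G)⁻¹ * (a * (r * (a : G)⁻¹ * r⁻¹)) * r * a := by group
        _ = _ := by rw [e1]; group)
    exact Subtype.ext (inv_mul_eq_one.mp this).symm
  obtain ⟨w, hw⟩ := Finite.surjective_of_injective hm ⟨q, hq⟩
  have e : (w : G) * (r * (w : G)⁻¹ * r⁻¹) = q := congrArg Subtype.val hw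
  exact ⟨w, w.2, by rw [← e]; group⟩

theorem FR_pair {Q : Subgroup G} {f g : G} (hf : f ∈ 𝒩(Q)) (hg : g ∈ 𝒩(Q)) (ff : f * f = 1)
    (gg : g * g = 1) (fp : ∀ x ∈ Q, x * (f * g) = f * g * x → x = 1) {a b : G} (ha : a ∈ Q)
    (hb : b ∈ Q) (aa : a * f * (a * f) = 1) (bb : b * g * (b * g) = 1) :
    ∃ w ∈ Q, a * f = w * f * w⁻¹ ∧ b * g = w * g * w⁻¹ := by
  obtain ⟨w, hw, e⟩ := FR_coset (mul_mem hf hg) fp (mul_mem ha (cm hf hb))
  have fi := inv_eq_of_mul_eq_one_right ff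
  have e1 : a * f * (b * g) = w * (f * g) * w⁻¹ := by rw [← e]; group
  have key : ∀ s s' : G, s * s = 1 → s' * s' = 1 → s * (s * s') = (s * s')⁻¹ * s := fun s s' h h' => by
    rw [mul_inv_rev, inv_eq_of_mul_eq_one_right h, inv_eq_of_mul_eq_one_right h', ← mul_assoc, h,
      mul_assoc, h, one_mul, mul_one]
  have k1 := key _ _ aa bb
  have k2 := key _ _ ff gg
  rw [e1] at k1
  have h1 := fp (w⁻¹ * a * (f * w * f⁻¹)) (mul_mem (mul_mem (inv_mem hw) ha) (cm hf hw)) (by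
    have k3 : f⁻¹ * (f * g) = (f * g)⁻¹ * f⁻¹ := by rw [fi]; exact k2
    have k4 : a * f * (w * (f * g)⁻¹ * w⁻¹) = w * (f * g) * w⁻¹ * (a * f) := by
      calc _ = w * (f * g) * w⁻¹ * ((w * (f * g) * w⁻¹)⁻¹ * (a * f)) * (w * (f * g)⁻¹ * w⁻¹) := by
            group
        _ = _ := by
          rw [← k1, ← e1]
          have := inv_eq_of_mul_eq_one_right aa
          have h5 : w * (f * g)⁻¹ * w⁻¹ = (a * f * (b * g))⁻¹ := by rw [e1]; group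
          rw [h5]; group
    calc _ = w⁻¹ * (a * f) * w * (f⁻¹ * (f * g)) := by group
      _ = w⁻¹ * (a * f * (w * (f * g)⁻¹ * w⁻¹)) * w * f⁻¹ := by rw [k3]; group
      _ = _ := by rw [k4]; group)
  have h2 : a * f = w * f * w⁻¹ := by
    calc _ = w * (w⁻¹ * a * (f * w * f⁻¹)) * f * w⁻¹ := by group
      _ = _ := by rw [h1, mul_one]
  refine ⟨w, hw, h2, mul_left_cancel (a := a * f) ?_⟩
  rw [e1, h2]; group

/-- a dihedral group of automorphisms whose rotation has no fixed points -/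
theorem dih_free {Q : Subgroup G} (hQ : IsPGroup 2 Q) {f y : G} (hf : f ∈ 𝒩(Q)) (hy : y ∈ 𝒩(Q))
    (ff : f * f = 1) (fy : f * y * f = y⁻¹) (oy : Odd (orderOf y))
    (fp : ∀ x ∈ Q, x * y = y * x → x = 1) :
    Nat.card (Q ⊓ 𝒞[f] : Subgroup G) ^ 2 = Nat.card Q ∧
      ∀ x ∈ Q, x * f * (x * f) = 1 → ∃ w ∈ Q, x * f = w * f * w⁻¹ := by
  have hg : y * f * y⁻¹ ∈ 𝒩(Q) := mul_mem (mul_mem hy hf) (inv_mem hy)
  have gg : y * f * y⁻¹ * (y * f * y⁻¹) = 1 := by rw [conj_mul, ff, mul_one, mul_inv_cancel]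
  have fp' : ∀ x ∈ Q, x * (f * (y * f * y⁻¹)) = f * (y * f * y⁻¹) * x → x = 1 := fun x hx e => by
    rw [show f * (y * f * y⁻¹) = (y ^ 2)⁻¹ by rw [← mul_assoc, ← mul_assoc, fy]; group] at e
    obtain ⟨k, hk⟩ := oy
    have h1 : Commute x ((y ^ 2) ^ (k + 1)) := (Commute.inv_right_iff.mp e).pow_right _
    rw [← pow_mul, show 2 * (k + 1) = orderOf y + 1 by omega, pow_succ, pow_orderOf_eq_one,
      one_mul] at h1
    exact fp x hx h1
  refine ⟨?_, fun x hx e => ?_⟩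
  · rw [sq, ← Nat.card_prod]
    refine Nat.card_eq_of_bijective (fun p => (⟨p.1 * (y * p.2 * y⁻¹),
      mul_mem p.1.2.1 (cm hy p.2.2.1)⟩ : Q)) ⟨?_, fun u => ?_⟩
    · rintro ⟨⟨a, ha, a1⟩, b, hb, b1⟩ ⟨⟨a', ha', a2⟩, b', hb', b2⟩ e
      have e1 : a * (y * b * y⁻¹) = a' * (y * b' * y⁻¹) := congrArg Subtype.val e
      have e2 : a'⁻¹ * a = y * (b' * b⁻¹) * y⁻¹ := by
        calc _ = a'⁻¹ * (a * (y * b * y⁻¹)) * (y * b⁻¹ * y⁻¹) := by group
          _ = _ := by rw [e1]; group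
      have c1 : Commute (a'⁻¹ * a) f := mem_cent1.1 (mul_mem (inv_mem a2) a1)
      have c2 : Commute (a'⁻¹ * a) (y * f * y⁻¹) := by
        rw [e2, Commute, SemiconjBy, conj_mul, conj_mul, mem_cent1.1 (mul_mem b2 (inv_mem b1))]
      have h1 := inv_mul_eq_one.mp (fp' _ (mul_mem (inv_mem ha') ha) (c1.mul_right c2))
      subst h1
      obtain rfl : b = b' := by simpa using e1
      rfl
    · obtain ⟨w, hw, e1, e2⟩ := FR_pair hf hg ff gg fp' (one_mem Q)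
        (b := u * (y * f * y⁻¹ * (u : G)⁻¹ * (y * f * y⁻¹)⁻¹)) (mul_mem u.2 (cm hg (inv_mem u.2)))
        (by rwa [one_mul]) (by
          calc _ = u * (y * f * y⁻¹ * (y * f * y⁻¹)) * (u : G)⁻¹ := by group
            _ = 1 := by rw [gg]; group)
      refine ⟨⟨⟨w, hw, mem_cent1.2 ?_⟩, ⟨y⁻¹ * (w⁻¹ * u) * y, cm' hy (mul_mem (inv_mem hw) u.2),
        mem_cent1.2 ?_⟩⟩, Subtype.ext (by simp only; group)⟩
      · rw [one_mul] at e1
        exact mul_inv_eq_iff_eq_mul.mp e1.symm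
      · calc _ = y⁻¹ * w⁻¹ * (u * (y * f * y⁻¹ * (u : G)⁻¹ * (y * f * y⁻¹)⁻¹) * (y * f * y⁻¹)) *
            u * y := by group
          _ = _ := by rw [e2]; group
  · obtain ⟨w, hw, e1, -⟩ := FR_pair hf hg ff gg fp' hx (one_mem Q) e (by rwa [one_mul])
    exact ⟨w, hw, e1⟩

theorem Ctx0.Gd.fpf {c : Ctx0 G F} {Q : Subgroup G} (h : c.Gd Q) {i : ℕ} (hi : c.μ ^ i ≠ 1) (b : F)
    {x : G} (hx : x ∈ Q) (e : x * (c.h ^ i * c.z b) = c.h ^ i * c.z b * x) : x = 1 := by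
  by_contra h1
  have ty : Commute c.t (c.h ^ i * c.z b) := c.tA (mul_mem (pow_mem c.h_mem_A i) (c.z_mem_A b))
  obtain ⟨v, ⟨hv, v2⟩, v1, vt⟩ := FR_fix (X := Q ⊓ 𝒞[c.h ^ i * c.z b]) h.p2.to_inf_left
    (fun e' => h1 (mem_bot.1 (e' ▸ ⟨hx, mem_cent1.2 e⟩))) (t := c.t)
    (mn fun w hw => mem_inf.2 ⟨cm h.tN hw.1, mul_mem (mul_mem (mem_cent1.2 ty) (mem_inf.1 hw).2)
      (inv_mem (mem_cent1.2 ty))⟩) c.tt
  obtain ⟨d, rfl⟩ := h.ct v hv vt
  have e1 : c.z (c.μ ^ i * d) = c.z d := by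
    rw [← c.h_pow_z]
    calc _ = c.h ^ i * (c.z b * c.z d) * (c.h ^ i * c.z b)⁻¹ := by rw [c.z_comm]; group
      _ = _ := by rw [← mul_assoc, ← mem_cent1.1 v2]; group
  exact hi (mul_right_cancel₀ (fun e => v1 (c.z_eq_one.2 e)) ((c.z_inj.1 e1).trans (one_mul d).symm))

theorem Ctx0.Gd.free {c : Ctx G F} {Q : Subgroup G} (h : c.Gd Q) {f : G} (hf : f ∈ c.T)
    (fB : f ∉ c.B) (ff : f * f = 1) : Nat.card (Q ⊓ 𝒞[f] : Subgroup G) ^ 2 = Nat.card Q ∧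
      ∀ x ∈ Q, x * f * (x * f) = 1 → ∃ w ∈ Q, x * f = w * f * w⁻¹ := by
  obtain ⟨i, b, h1, h2, h3⟩ := c.out_inv hf (fun e => fB ((c.CT hf).1 e)) ff
  exact dih_free h.p2 (h.nN (c.T_le_N1 hf)) (h.nN (mul_mem (pow_mem c.h_mem_N1 i)
    (c.T_le_N1 (c.V_le_T (c.z_mem b))))) ff h3 h2 fun x hx => h.fpf h1 b hx

end Cfsg.Agent.L2S
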