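/-
Standard subgroups of type `L₂(2^a)` (S1773): construction of the frame.
-/
import Cfsg.Agent.L2S.Defs
import Cfsg.Agent.G5.A
import Cfsg.Agent.H8.OddCore

set_option autoImplicit false
set_option linter.unusedSectionVars false

namespace Cfsg.Agent.L2S

open Cfsg Subgroup H49
open H42 (SylIn exists_sylIn)
open TL2 (cm cm' mn)
open scoped MatrixGroups

variable {G F : Type*} [Group G] [Finite G] [Field F] [Fintype F] [CharP F 2]

theorem eq_upT {m : SL(2, F)} (h : m * H66.upT 1 = H66.upT 1 * m) : m = H66.upT (m.1 0 1) := by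
  have e := fun i j => congrArg (fun g : SL(2, F) => g.1 i j) h
  have e1 := e 0 0
  have e2 := e 0 1
  have e3 := m.2
  simp only [H66.sl2_mul_apply, H66.coe_upT] at e1 e2
  rw [Matrix.det_fin_two] at e3
  simp at e1 e2
  have e4 : m.1 1 1 = m.1 0 0 := by linear_combination -e2
  rw [e1, e4] at e3
  have e5 : m.1 0 0 = 1 := by
    have : (m.1 0 0 + 1) ^ 2 = 0 := by
      rw [CharTwo.add_sq, one_pow, sq]
      linear_combination e3 + CharTwo.two_eq_zero (R := F)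
    have h0 := (pow_eq_zero_iff two_ne_zero).1 this
    linear_combination h0 - CharTwo.two_eq_zero (R := F)
  refine H66.sl2_ext ?_ ?_ ?_ ?_ <;> simp [H66.coe_upT, e1, e4, e5]

theorem cent_bot {A E : Subgroup G} [E.Normal] (hE : IsSimpleGroup E) (hAE : A ≤ E) (A1 : A ≠ ⊥)
    (hO : oddCore G = ⊥) (nA : ¬ A.Normal) {t : G} (ht : orderOf t = 2) (htA : t ∈ 𝒞(A))
    (CN : 𝒞[t] ≤ 𝒩(A)) (cyc : ∀ R : Subgroup G, IsPGroup 2 R → R ≤ 𝒞(A) → IsCyclic R) :
    𝒞(E) = ⊥ := by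
  rcases Nat.even_or_odd (Nat.card 𝒞(E)) with h | h
  swap
  · exact eq_bot_iff.2 (hO ▸ H8.le_pPrimeCore_two inferInstance h)
  have tt : t * t = 1 := by rw [← sq, ← ht, pow_orderOf_eq_one]
  obtain ⟨R, hR, htR⟩ := exists_sylIn (TL2.p2_zpowers tt) (zpowers_le.2 htA)
  have h1 := hR.inf_normal (M := 𝒞(E)) (centralizer_le hAE) fun g _ => by
    rw [normalizer_eq_top]; trivial
  have h2 : 2 ∣ Nat.card (R ⊓ 𝒞(E) : Subgroup G) := by
    rw [even_iff_two_dvd, ← card_mul_relIndex h1.le] at h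
    exact (Nat.prime_two.dvd_mul.1 h).resolve_right h1.ndvd
  obtain ⟨⟨s, hs⟩, s2⟩ := exists_prime_orderOf_dvd_card' 2 h2
  have := cyc R hR.isP hR.le
  have e : s = t := by
    have h3 : orderOf (⟨s, hs.1⟩ : R) = 2 := by rw [← orderOf_coe, ← s2, ← orderOf_coe]
    have h4 : orderOf (⟨t, htR (mem_zpowers t)⟩ : R) = 2 := by rw [← orderOf_coe, ht]
    classical
    have := Fintype.ofFinite R
    have h5 := IsCyclic.card_orderOf_eq_totient (α := R) (d := 2)
      (h3 ▸ orderOf_dvd_card)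
    rw [Nat.totient_two, Finset.card_eq_one] at h5
    obtain ⟨x, hx⟩ := h5
    have h6 : ∀ y : R, orderOf y = 2 → y = x := fun y hy => by
      rw [← Finset.mem_singleton, ← hx]
      simpa using hy
    exact congrArg Subtype.val ((h6 _ h3).trans (h6 _ h4).symm)
  subst e
  have := normal_subgroupOf (N := A) (M := E) fun x hx => CN (mem_cent1.2 (hs.2 x hx))
  rcases hE.eq_bot_or_eq_top_of_normal _ this with e2 | e2
  · rw [subgroupOf_eq_bot, disjoint_iff, inf_eq_left.2 hAE] at e2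
    exact absurd e2 A1
  · exact absurd (le_antisymm hAE (subgroupOf_eq_top.1 e2) ▸ ‹E.Normal›) nA

theorem exists_ctx0 {A E : Subgroup G} [E.Normal] (hE : IsSimpleGroup E) (hAE : A ≤ E)
    (hO : oddCore G = ⊥) (nA : ¬ A.Normal) {t : G} (ht : orderOf t = 2) (htA : t ∈ 𝒞(A))
    (CN : 𝒞[t] ≤ 𝒩(A)) (cyc : ∀ R : Subgroup G, IsPGroup 2 R → R ≤ 𝒞(A) → IsCyclic R)
    {a : ℕ} (ha : 2 ≤ a) (hF : Fintype.card F = 2 ^ a) (e : SL(2, F) ≃* A) :
    ∃ c : Ctx0 G F, c.E = E ∧ c.a = a := by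
  let ψ : SL(2, F) →* G := A.subtype.comp e.toMonoidHom
  have hψ : Function.Injective ψ := A.subtype_injective.comp e.injective
  have mA : ∀ x, ψ x ∈ A := fun x => (e x).2
  have sA : ∀ x ∈ A, ∃ m, ψ m = x := fun x hx => ⟨e.symm ⟨x, hx⟩, by simp [ψ]⟩
  have tt : t * t = 1 := by rw [← sq, ← ht, pow_orderOf_eq_one]
  let u : Multiplicative F →* SL(2, F) := MonoidHom.mk' (fun a => H66.upT a.toAdd) fun a b =>
    H66.upT_add _ _
  have hu : IsPGroup 2 (ψ.comp u).range := by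
    rintro ⟨_, b, rfl⟩
    refine ⟨1, Subtype.ext ?_⟩
    rw [pow_one, sq, coe_mul, ← map_mul, coe_one, ← map_one (ψ.comp u)]
    exact congrArg _ (CharTwo.add_self_eq_zero (R := F) b.toAdd)
  obtain ⟨T, hT, hV⟩ := exists_sylIn hu (H := 𝒞[t]) (by
    rintro _ ⟨b, rfl⟩
    exact mem_cent1.2 (htA _ (mA _)))
  have zT : ∀ b, ψ (H66.upT b) ∈ T := fun b => hV ⟨Multiplicative.ofAdd b, rfl⟩
  have z1 : ψ (H66.upT 1) ≠ 1 := fun e1 => one_ne_zero
    (congrArg (fun g : SL(2, F) => g.1 0 1) (hψ (e1.trans (map_one ψ).symm)))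
  obtain ⟨s, hs, s1, sc⟩ := G5.exists_fixed (P := T ⊓ A) hT.isP
    (fun c hc x hx => ⟨T.mul_mem (T.mul_mem hc hx.1) (T.inv_mem hc), cm (CN (hT.le hc)) hx.2⟩) (by
      obtain ⟨n, hn⟩ := (hT.isP.to_inf_left (K := A)).exists_card_eq
      rw [hn]
      refine dvd_pow_self 2 ?_
      rintro rfl
      rw [pow_zero, card_eq_one] at hn
      exact z1 (mem_bot.1 (hn ▸ (⟨zT 1, mA _⟩ : _ ∈ T ⊓ A))))
  obtain ⟨m, rfl⟩ := sA s hs.2
  have hm := eq_upT (m := m) (hψ (by rw [map_mul, map_mul, sc _ (zT 1)]))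
  generalize m.1 0 1 = b at hm
  subst hm
  have b0 : b ≠ 0 := by
    rintro rfl
    exact s1 (by rw [H66.upT_zero, map_one])
  obtain ⟨r, hr⟩ := surjective_frobenius F 2 b
  have r2 : r ^ 2 = b := hr
  have r0 : r ≠ 0 := by
    rintro rfl
    exact b0 (by rw [← r2]; simp)
  let φ : SL(2, F) →* G := ψ.comp (MulAut.conj (H9.diagHom F (Units.mk0 r r0))).toMonoidHom
  have φu : ∀ d, φ (H66.upT d) = ψ (H66.upT (b * d)) := fun d =>
    congrArg ψ ((H22.diag_conj_upT _ d).trans (by rw [Units.val_mk0, r2]))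
  have hr : φ.range = A := le_antisymm (by rintro _ ⟨x, rfl⟩; exact mA _) fun x hx => by
    obtain ⟨m, rfl⟩ := sA x hx
    exact ⟨(MulAut.conj _).symm m, congrArg ψ (MulEquiv.apply_symm_apply _ m)⟩
  obtain ⟨l, hl⟩ := IsCyclic.exists_monoid_generator (α := Fˣ)
  refine ⟨⟨E, T, t, φ, l, a, by rw [Nat.card_eq_fintype_card, hF], ha, fun d hd => ?_,
    hψ.comp (MulEquiv.injective _), inferInstance, hE, hr ▸ hAE,
    cent_bot hE hAE (fun e1 => z1 (mem_bot.1 (e1 ▸ mA _))) hO nA ht htA CN cyc, hO, hr ▸ nA, tt,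
    fun e1 => by simp [e1] at ht, fun x => (htA _ (mA _)).symm, hr ▸ CN, hT,
    fun d => φu d ▸ zT _, fun x hx => by rw [φu, mul_one, sc x hx],
    cyc _ hT.isP.to_inf_left (hr ▸ inf_le_right)⟩, rfl, rfl⟩
  obtain ⟨w, hw⟩ := surjective_frobenius F 2 d
  have w2 : w ^ 2 = d := hw
  have w0 : w ≠ 0 := by
    rintro rfl
    exact hd (by rw [← w2]; simp)
  obtain ⟨i, hi⟩ := hl (Units.mk0 w w0)
  refine ⟨i, ?_⟩
  rw [← pow_mul, mul_comm, pow_mul, ← Units.val_pow_eq_pow_val, show l ^ i = _ from hi,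
    Units.val_mk0, w2]

/-- the centre of a covering group of `L₂(2^a)` -/
theorem center_cases {A : Type*} [Group A] [Finite A] (hA : Group.IsPerfect A)
    (e : A ⧸ center A ≃* SL(2, F)) (h9 : Fintype.card F ≠ 9) :
    Nonempty (SL(2, F) ≃* A) ∨ (Fintype.card F = 4 ∧ Even (Nat.card (center A))) := by
  let σ : A →* SL(2, F) := e.toMonoidHom.comp (QuotientGroup.mk' _)
  have hs : Function.Surjective σ := e.surjective.comp (QuotientGroup.mk'_surjective _)
  have hk : σ.ker = center A := by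
    rw [← MonoidHom.comap_ker, (MonoidHom.ker_eq_bot_iff _).2 e.injective, MonoidHom.comap_bot,
      QuotientGroup.ker_mk']
  have hc : σ.ker ⊓ commutator A = center A := by rw [hA.commutator_eq_top, inf_top_eq, hk]
  by_cases h1 : Nat.card (center A) = 1
  · exact Or.inl ⟨(MulEquiv.ofBijective σ
      ⟨(MonoidHom.ker_eq_bot_iff _).1 (hk.trans (card_eq_one.1 h1)), hs⟩).symm⟩
  obtain ⟨r, hr, hd⟩ := Nat.exists_prime_and_dvd h1
  have := Fact.mk hr
  by_cases r2 : r = 2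
  · subst r2
    refine Or.inr ⟨?_, even_iff_two_dvd.2 hd⟩
    by_contra h4
    exact H22.sl2_not_char_dvd h4 h9 2 hs hk.le (hc ▸ hd)
  · exact absurd (hc ▸ hd) (H22.sl2_not_dvd_of_ne 2 r2 r2 hs hk.le)

end Cfsg.Agent.L2S
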