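/-
Lifting elements of order five from `PSL_n` to `SL_n`, `n = 2, 3`.
-/
import Cfsg.Agent.L2S.Defs2

set_option autoImplicit false
set_option linter.unusedSectionVars false

namespace Cfsg.Agent.L2S.IdL

open Matrix

variable {K : Type*} [Field K] {n : ℕ}

/-- the projection `SL → PSL` -/
abbrev pr (n : ℕ) (K : Type*) [Field K] :
    Matrix.SpecialLinearGroup (Fin n) K →* ProjectiveSpecialLinearGroup (Fin n) K :=
  QuotientGroup.mk' _

/-- the underlying matrix -/
def mt : Matrix.SpecialLinearGroup (Fin n) K →* Matrix (Fin n) (Fin n) K where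
  toFun g := g.1
  map_one' := rfl
  map_mul' _ _ := rfl

theorem mt_inj {g h : Matrix.SpecialLinearGroup (Fin n) K} (e : mt g = mt h) : g = h :=
  Subtype.ext e

theorem mt_det (g : Matrix.SpecialLinearGroup (Fin n) K) : (mt g).det = 1 := g.2

theorem mt_inv (g : Matrix.SpecialLinearGroup (Fin n) K) : mt g⁻¹ = (mt g).adjugate := rfl

theorem pr_surj (y : ProjectiveSpecialLinearGroup (Fin n) K) : ∃ Y, pr n K Y = y :=
  QuotientGroup.mk'_surjective _ y

theorem pr_eq {g h : Matrix.SpecialLinearGroup (Fin n) K} (e : pr n K g = pr n K h) :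
    ∃ r : K, r ^ n = 1 ∧ mt h = r • mt g := by
  obtain ⟨z, hz, e⟩ := (QuotientGroup.mk'_eq_mk' _).1 e
  obtain ⟨r, hr, hs⟩ := Matrix.SpecialLinearGroup.mem_center_iff.1 hz
  refine ⟨r, by simpa using hr, ?_⟩
  have hs' : mt z = scalar (Fin n) r := hs.symm
  rw [← e, map_mul, hs', scalar_apply, ← smul_one_eq_diagonal, mul_smul_comm, mul_one]

theorem six (hn : n = 2 ∨ n = 3) {r : K} (h : r ^ n = 1) : r ^ 6 = 1 := by
  rcases hn with rfl | rfl
  · rw [show 6 = 2 * 3 from rfl, pow_mul, h, one_pow]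
  · rw [show 6 = 3 * 2 from rfl, pow_mul, h, one_pow]

theorem lift5 (hn : n = 2 ∨ n = 3) {y : ProjectiveSpecialLinearGroup (Fin n) K} (h5 : y ^ 5 = 1) :
    ∃ Y, pr n K Y = y ∧ Y ^ 5 = 1 := by
  obtain ⟨Y, rfl⟩ := pr_surj y
  obtain ⟨r, hr, e⟩ := pr_eq (g := 1) (h := Y ^ 5) (by rw [map_one, map_pow, h5])
  refine ⟨Y ^ 6, by rw [map_pow, show 6 = 5 + 1 from rfl, pow_succ, h5, one_mul], ?_⟩
  rw [← pow_mul, mul_comm, pow_mul]
  apply mt_inj
  rw [map_pow, e, smul_pow, six hn hr]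
  simp

theorem eq_of5 (hn : n = 2 ∨ n = 3) {X Y : Matrix.SpecialLinearGroup (Fin n) K} (hX : X ^ 5 = 1)
    (hY : Y ^ 5 = 1) (e : pr n K X = pr n K Y) : X = Y := by
  obtain ⟨r, hr, e⟩ := pr_eq e
  have h5 : r ^ 5 = 1 := by
    have h1 : mt (Y ^ 5) = r ^ 5 • mt (X ^ 5) := by rw [map_pow, map_pow, e, smul_pow]
    rw [hX, hY, map_one] at h1
    have h0 : 0 < n := by omega
    have := congrFun (congrFun h1 ⟨0, h0⟩) ⟨0, h0⟩
    simpa using this.symm
  have h6 := six hn hr
  rw [show 6 = 5 + 1 from rfl, pow_succ, h5, one_mul] at h6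
  apply mt_inj
  rw [e, h6, one_smul]

theorem ch2 (A : Matrix (Fin 2) (Fin 2) K) : A * A = A.trace • A - A.det • (1 : Matrix _ _ K) := by
  ext i j
  fin_cases i <;> fin_cases j <;>
    simp [mul_apply, Fin.sum_univ_two, trace_fin_two, det_fin_two] <;> ring

theorem ch3 (A : Matrix (Fin 3) (Fin 3) K) :
    A * A * A = A.trace • (A * A) - A.adjugate.trace • A + A.det • (1 : Matrix _ _ K) := by
  ext i j
  fin_cases i <;> fin_cases j <;>
    simp [mul_apply, Fin.sum_univ_three, trace_fin_three, det_fin_three, adjugate_fin_three] <;>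
    ring

theorem five_of_nil {m : Type*} [Fintype m] [DecidableEq m] {N : Matrix m m K} (h3 : N ^ 3 = 0)
    (h5 : (1 + N) ^ 5 = 1) (h0 : N ≠ 0) : (5 : K) = 0 := by
  by_contra h
  have e : (1 + N) ^ 5 = 1 + (5 : K) • N + (10 : K) • N ^ 2 + N ^ 3 * ((10 : K) • 1 + (5 : K) • N + N ^ 2) := by
    simp only [Algebra.smul_def, map_ofNat]
    noncomm_ring
  rw [h5, h3, zero_mul, add_zero, add_assoc, left_eq_add] at e
  have e2 : (5 : K) • N ^ 2 = 0 := by
    have := congrArg (fun X => N * X) e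
    simp only [mul_add, mul_smul_comm, mul_zero, ← pow_succ', h3, smul_zero, add_zero] at this
    rwa [← pow_two] at this
  have e3 : N ^ 2 = 0 := (smul_eq_zero.1 e2).resolve_left h
  rw [e3, smul_zero, add_zero] at e
  exact h0 ((smul_eq_zero.1 e).resolve_left h)

theorem tr_conj (g X : Matrix.SpecialLinearGroup (Fin n) K) : 
    (mt (g * X * g⁻¹)).trace = (mt X).trace := by
  rw [map_mul, trace_mul_comm, ← map_mul, ← mul_assoc, inv_mul_cancel, one_mul]

theorem five_eq_zero (hn : n = 2 ∨ n = 3) {Y k : Matrix.SpecialLinearGroup (Fin n) K} (h5 : Y ^ 5 = 1)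
    (h1 : Y ≠ 1) (e : k * Y * k⁻¹ = Y ^ 2) : (5 : K) = 0 := by
  have e4 : k * Y ^ 2 * k⁻¹ = Y ^ 4 := by rw [← conj_pow, e, ← pow_mul]
  have e3 : k * Y ^ 4 * k⁻¹ = Y ^ 3 := by
    rw [← conj_pow, e, ← pow_mul, show 2 * 4 = 5 + 3 from rfl, pow_add, h5, one_mul]
  have t2 : (mt Y ^ 2).trace = (mt Y).trace := by
    rw [← map_pow, ← e, tr_conj]
  have t4 : (mt Y ^ 4).trace = (mt Y).trace := by
    rw [← t2, ← map_pow, ← e4, tr_conj, map_pow]
  have t3 : (mt Y ^ 3).trace = (mt Y).trace := by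
    rw [← t4, ← map_pow, ← e3, tr_conj, map_pow]
  have h5' : (1 + (mt Y - 1)) ^ 5 = 1 := by
    rw [add_sub_cancel, ← map_pow, h5, map_one]
  have h0 : mt Y - 1 ≠ 0 := fun h => h1 (mt_inj (by rw [map_one]; exact sub_eq_zero.1 h))
  refine five_of_nil ?_ h5' h0
  rcases hn with rfl | rfl
  · have c := ch2 (mt Y)
    rw [mt_det, one_smul] at c
    have c3 : mt Y ^ 3 = (mt Y).trace • mt Y ^ 2 - mt Y := by
      rw [pow_succ, pow_two, c, sub_mul, smul_mul_assoc, one_mul, c]
    have a2 := congrArg trace c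
    have a3 := congrArg trace c3
    rw [← pow_two, t2, trace_sub, trace_smul, trace_one] at a2
    rw [t3, trace_sub, trace_smul, t2] at a3
    simp only [smul_eq_mul, Fintype.card_fin, Nat.cast_ofNat] at a2 a3
    have ht : (mt Y).trace = 2 := by linear_combination a3 - a2
    have c2 : (mt Y - 1) ^ 2 = 0 := by
      rw [ht, two_smul] at c
      rw [pow_two, sub_mul, mul_sub, c, mul_one, one_mul]
      abel
    rw [pow_succ, c2, zero_mul]
  · have c := ch3 (mt Y)
    have ad : (mt Y).adjugate = mt Y ^ 4 := by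
      rw [← mt_inv, ← map_pow]
      congr 1
      exact inv_eq_of_mul_eq_one_right (by rw [← pow_succ', h5])
    rw [mt_det, one_smul, ad, t4] at c
    have a := congrArg trace c
    rw [← pow_two, ← pow_succ, t3, trace_add, trace_sub, trace_smul, trace_smul, t2,
      trace_one] at a
    simp only [smul_eq_mul, Fintype.card_fin, Nat.cast_ofNat] at a
    have ht : (mt Y).trace = 3 := by linear_combination a
    rw [ht] at c
    have : (mt Y - 1) ^ 3 = mt Y * mt Y * mt Y - ((3 : K) • (mt Y * mt Y) - (3 : K) • mt Y + 1) := by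
      simp only [Algebra.smul_def, map_ofNat]
      noncomm_ring
    rw [this, c, sub_self]

end Cfsg.Agent.L2S.IdL
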