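/-
`L₂(r)`, `r` a power of five, with an involutory automorphism whose centralizer looks like `S₅`.
-/
import Cfsg.Agent.L2S.IdL

set_option autoImplicit false
set_option linter.unusedSectionVars false

namespace Cfsg.Agent.L2S

open Cfsg Subgroup H49
open H42 (SylIn exists_sylIn)
open TL2 (cm cm' mn mem_sup_t p2_zpowers p2_sup)

variable {G F : Type*} [Group G] [Finite G] [Field F] [Fintype F] [CharP F 2]

namespace Id2Aux

open IdL H66
open scoped MatrixGroups

variable {K : Type*} [Field K] [CharP K 5]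

theorem five : (5 : K) = 0 := by exact_mod_cast CharP.cast_eq_zero K 5

theorem main [Fintype K] {X : Type*} [Group X] {τ : MulAut X} {y' k : X} (u : K → X)
    (add : ∀ a b, u (a + b) = u a * u b) (inj : Function.Injective u)
    (hN : ∀ g b, g * u 1 * g⁻¹ = u b → ∃ δ : K, ∀ x, g * u x * g⁻¹ = u (δ ^ 2 * x))
    (hC : ∀ g a, a ≠ 0 → g * u a = u a * g → ∃ x, g = u x)
    (hD : ∀ δ : K, δ ≠ 0 → ∃ g, ∀ x, g * u x * g⁻¹ = u (δ ^ 2 * x))
    (h : IdD τ (u 1) y' k) : Fintype.card K = 25 := by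
  have h5 : (5 : K) = 0 := five
  have u0 : u 0 = 1 := by
    have := add 0 0
    rw [add_zero] at this
    exact left_eq_mul.1 this
  have upow : ∀ (i : ℕ) (x : K), u x ^ i = u (i * x) := by
    intro i x
    induction i with
    | zero => simp [u0]
    | succ i ih => rw [pow_succ, ih, ← add, Nat.cast_succ, add_mul, one_mul]
  have ucomm : ∀ a b, u a * u b = u b * u a := fun a b => by rw [← add, ← add, add_comm]
  have he : ∀ x, ∃ z, τ (u x) = u z := fun x => hC _ 1 one_ne_zero (by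
    conv_lhs => rw [← h.τy]
    conv_rhs => rw [← h.τy]
    rw [← map_mul, ← map_mul, ucomm])
  choose e he using he
  have e_add : ∀ a b, e (a + b) = e a + e b := fun a b => inj (by
    rw [← he, add, map_mul, he, he, add])
  have e0 : e 0 = 0 := inj (by rw [← he, u0, map_one])
  have e_sub : ∀ a b, e (a - b) = e a - e b := fun a b => by
    have := e_add (a - b) b
    rw [sub_add_cancel] at this
    rw [this, add_sub_cancel_right]
  have e1 : e 1 = 1 := inj (by rw [← he, h.τy])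
  have ee : ∀ a, e (e a) = a := fun a => inj (by rw [← he, ← he, h.ττ])
  have e_sq : ∀ δ x, e (δ ^ 2 * x) = e (δ ^ 2) * e x := by
    intro δ x
    by_cases hδ : δ = 0
    · simp [hδ, e0]
    obtain ⟨g, hg⟩ := hD δ hδ
    have k1 : ∀ x, τ g * u (e x) * (τ g)⁻¹ = u (e (δ ^ 2 * x)) := fun x => by
      rw [← he, ← he, ← hg, map_mul, map_mul, map_inv]
    obtain ⟨δ', h'⟩ := hN (τ g) _ (by have := k1 1; rwa [e1] at this)
    have a1 := inj ((h' _).symm.trans (k1 1))
    have a2 := inj ((h' _).symm.trans (k1 x))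
    rw [e1, mul_one, mul_one] at a1
    rw [← a2, a1]
  have e_mul : ∀ a x, e (a * x) = e a * e x := by
    intro a x
    have ha : a = (3 * (a + 1)) ^ 2 - (3 * (a - 1)) ^ 2 := by linear_combination (-7 * a) * h5
    rw [ha, sub_mul, e_sub, e_sub, e_sq, e_sq, sub_mul]
  have fix : ∀ x, e x = x → ∃ i : Fin 5, x = (i : ℕ) := by
    intro x hx
    obtain ⟨i, o, e3, o1, o2⟩ := h.cen (u x) (by rw [he, hx]) (ucomm _ _)
    obtain ⟨w, rfl⟩ := hC o 1 one_ne_zero o1
    have hw : w = 0 := by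
      by_contra hw
      obtain ⟨w', rfl⟩ := hC y' w hw o2.symm
      have := orderOf_dvd_of_pow_eq_one (x := u 1 * u w') (n := 5) (by
        rw [← add, upow, Nat.cast_ofNat, h5, zero_mul, u0])
      rw [h.two] at this
      omega
    rw [hw, u0, mul_one, upow, mul_one] at e3
    refine ⟨⟨i % 5, Nat.mod_lt _ (by norm_num)⟩, ?_⟩
    rw [inj e3]
    exact (CharP.cast_eq_mod K 5 i)
  have e3 : ∀ x, e (3 * x) = 3 * e x := fun x => by
    rw [show 3 * x = x + x + x by ring, e_add, e_add]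
    ring
  have hj : ∃ j : K, ∀ x, e x = -x → ∃ b : Fin 5, x = (b : ℕ) * j := by
    by_cases hj : ∃ j, j ≠ 0 ∧ e j = -j
    · obtain ⟨j, j0, hj⟩ := hj
      refine ⟨j, fun x hx => ?_⟩
      obtain ⟨b, hb⟩ := fix (x / j) (by
        have := e_mul (x / j) j
        rw [div_mul_cancel₀ _ j0, hx, hj] at this
        rw [eq_div_iff j0]
        linear_combination this)
      exact ⟨b, by rw [← hb, div_mul_cancel₀ _ j0]⟩
    · refine ⟨0, fun x hx => ⟨0, ?_⟩⟩
      by_contra h0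
      exact hj ⟨x, by simpa using h0, hx⟩
  obtain ⟨j, hj⟩ := hj
  have le : Fintype.card K ≤ 25 := by
    have := Fintype.card_le_of_surjective
      (fun p : Fin 5 × Fin 5 => ((p.1 : ℕ) : K) + (p.2 : ℕ) * j) (fun x => by
        obtain ⟨a, ha⟩ := fix (3 * (x + e x)) (by rw [e3, e_add, ee, add_comm])
        obtain ⟨b, hb⟩ := hj (3 * (x - e x)) (by rw [e3, e_sub, ee]; ring)
        refine ⟨(a, b), ?_⟩
        show ((a : ℕ) : K) + (b : ℕ) * j = x
        rw [← ha, ← hb]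
        linear_combination x * h5)
    simpa using this
  obtain ⟨δ, hδ⟩ := hN k 2 (by rw [h.ky, upow]; simp)
  have d2 : δ ^ 2 = 2 := by
    have := (hδ 1).symm.trans h.ky
    rw [upow] at this
    simpa using inj this
  have : Fact (Nat.Prime 5) := ⟨Nat.prime_five⟩
  obtain ⟨n, -, hn⟩ := FiniteField.card K 5
  obtain ⟨n, n0⟩ := n
  simp only [PNat.mk_coe] at hn
  have n2 : n ≤ 2 := by
    rw [hn] at le
    exact (Nat.pow_le_pow_iff_right (by norm_num : 1 < 5)).1 le
  interval_cases n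
  · exfalso
    have p := FiniteField.pow_card δ
    rw [hn, pow_one] at p
    have d0 : δ = 0 := by linear_combination 2 * p - (2 * δ * (δ ^ 2 + 2)) * d2 - δ * h5
    rw [d0] at d2
    exact one_ne_zero (α := K) (by linear_combination -3 * d2 - h5)
  · rw [hn]
    rfl

theorem upT_pow (i : ℕ) (x : K) : upT x ^ i = upT (i * x) := by
  induction i with
  | zero => simp [upT_zero]
  | succ i ih => rw [pow_succ, ih, ← upT_add, Nat.cast_succ, add_mul, one_mul]

theorem upT5 (x : K) : upT x ^ 5 = 1 := by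
  rw [upT_pow, Nat.cast_ofNat, five, zero_mul, upT_zero]

theorem det2 (g : SL(2, K)) : g.1 0 0 * g.1 1 1 - g.1 0 1 * g.1 1 0 = 1 := by
  rw [← Matrix.det_fin_two]
  exact g.2

theorem norm {g : SL(2, K)} {a b : K} (ha : a ≠ 0)
    (e : pr 2 K g * pr 2 K (upT a) * (pr 2 K g)⁻¹ = pr 2 K (upT b)) :
    g.1 1 0 = 0 ∧ ∀ x, g * upT x * g⁻¹ = upT (g.1 0 0 ^ 2 * x) := by
  rw [← map_inv, ← map_mul, ← map_mul] at e
  have e1 := eq_of5 (Or.inl rfl) (by rw [conj_pow, upT5]; simp) (upT5 b) e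
  rw [mul_inv_eq_iff_eq_mul] at e1
  have e2 := congrArg (fun g : SL(2, K) => g.1 1 1) e1
  simp [sl2_mul_apply, coe_upT, ha] at e2
  refine ⟨e2, fun x => ?_⟩
  have d := det2 g
  rw [e2] at d
  rw [mul_inv_eq_iff_eq_mul]
  refine sl2_ext ?_ ?_ ?_ ?_ <;> simp [sl2_mul_apply, coe_upT, e2]
  linear_combination (-(g.1 0 0 * x)) * d

theorem pr_of {g h : SL(2, K)} {r : K} (hr : r ^ 2 = 1) (e : mt h = r • mt g) :
    pr 2 K g = pr 2 K h := by
  refine (QuotientGroup.mk'_eq_mk' _).2 ⟨g⁻¹ * h, ?_, by simp⟩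
  refine Matrix.SpecialLinearGroup.mem_center_iff.2 ⟨r, by simpa using hr, ?_⟩
  show _ = mt (g⁻¹ * h)
  rw [map_mul, e, mul_smul_comm, ← map_mul, inv_mul_cancel, map_one, Matrix.scalar_apply,
    Matrix.smul_one_eq_diagonal]

theorem cent {g : Matrix.ProjectiveSpecialLinearGroup (Fin 2) K} {a : K} (ha : a ≠ 0)
    (e : g * pr 2 K (upT a) = pr 2 K (upT a) * g) : ∃ x, g = pr 2 K (upT x) := by
  obtain ⟨g, rfl⟩ := pr_surj g
  have e' : pr 2 K g * pr 2 K (upT a) * (pr 2 K g)⁻¹ = pr 2 K (upT a) := by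
    rw [e, mul_inv_cancel_right]
  obtain ⟨h0, h1⟩ := norm ha e'
  rw [← map_inv, ← map_mul, ← map_mul, h1] at e'
  have e1 := congrArg (fun g : SL(2, K) => g.1 0 1) (eq_of5 (Or.inl rfl) (upT5 _) (upT5 _) e')
  simp [coe_upT, ha] at e1
  have e2 : g.1 0 0 ^ 2 = 1 := by rcases e1 with e1 | e1 <;> simp [e1]
  have d := det2 g
  rw [h0] at d
  refine ⟨g.1 0 0 * g.1 0 1, pr_of e2 ?_⟩
  show (upT _).1 = g.1 0 0 • g.1
  ext i j
  fin_cases i <;> fin_cases j <;> simp [coe_upT, h0]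
  · linear_combination -e2
  · linear_combination -d

theorem exists_conj {Y : SL(2, K)} (h : Y ^ 5 = 1) : ∃ g a, Y = g * upT a * g⁻¹ := by
  have : Fact (Nat.Prime 5) := ⟨Nat.prime_five⟩
  have n : IsNilpotent (mt Y - 1) := ⟨5, by
    rw [sub_pow_char_of_commute 5 (Commute.one_right _), ← map_pow, h, map_one, one_pow, sub_self]⟩
  have t := (Matrix.isNilpotent_trace_of_isNilpotent n).eq_zero
  have t' : Y.1 0 0 + Y.1 1 1 = 2 := by
    rw [Matrix.trace_sub, Matrix.trace_one, Matrix.trace_fin_two] at t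
    simp only [Fintype.card_fin, Nat.cast_ofNat] at t
    exact sub_eq_zero.1 t
  have d := det2 Y
  by_cases hc : Y.1 1 0 = 0
  · refine ⟨1, Y.1 0 1, ?_⟩
    rw [hc] at d
    have h1 : Y.1 0 0 = 1 := by
      have : (Y.1 0 0 - 1) ^ 2 = 0 := by linear_combination Y.1 0 0 * t' - d
      exact sub_eq_zero.1 (pow_eq_zero_iff two_ne_zero |>.1 this)
    have h2 : Y.1 1 1 = 1 := by linear_combination t' - h1
    rw [inv_one, mul_one, one_mul]
    refine sl2_ext ?_ ?_ ?_ ?_ <;> simp [coe_upT, h1, h2, hc]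
  · refine ⟨H9.slMk !![Y.1 0 0 - 1, -(Y.1 1 0)⁻¹; Y.1 1 0, 0] (by simp [hc]), -(Y.1 1 0)⁻¹, ?_⟩
    rw [eq_mul_inv_iff_mul_eq]
    refine sl2_ext ?_ ?_ ?_ ?_ <;> simp [sl2_mul_apply, coe_upT, hc]
    · linear_combination Y.1 0 0 * t' - d
    · ring
    · linear_combination Y.1 1 0 * t'

end Id2Aux

open Matrix in
theorem IdD.id2 {K : Type*} [Field K] [Fintype K] [CharP K 5]
    {τ : MulAut (ProjectiveSpecialLinearGroup (Fin 2) K)}
    {y y' k : ProjectiveSpecialLinearGroup (Fin 2) K} (h : IdD τ y y' k) : Fintype.card K = 25 := by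
  obtain ⟨Y, rfl, h5⟩ := IdL.lift5 (Or.inl rfl) (y := y) (by rw [← h.y5, pow_orderOf_eq_one])
  obtain ⟨g0, a, rfl⟩ := Id2Aux.exists_conj h5
  have ha : a ≠ 0 := by
    rintro rfl
    have := h.y5
    rw [H66.upT_zero, mul_one, mul_inv_cancel, map_one, orderOf_one] at this
    omega
  set p := IdL.pr 2 K g0 with hp
  refine Id2Aux.main (τ := τ) (y' := y') (k := k)
    (fun x => p * IdL.pr 2 K (H66.upT (a * x)) * p⁻¹) ?_ ?_ ?_ ?_ ?_ ?_
  · intro x z
    rw [mul_add, H66.upT_add, map_mul]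
    group
  · intro x z e
    have e1 := IdL.eq_of5 (Or.inl rfl) (Id2Aux.upT5 _) (Id2Aux.upT5 _)
      (mul_left_cancel (mul_right_cancel e))
    have e2 := congrArg (fun g : Matrix.SpecialLinearGroup (Fin 2) K => g.1 0 1) e1
    simpa [H66.coe_upT, ha] using e2
  · intro g b e
    obtain ⟨w, hw⟩ := IdL.pr_surj (p⁻¹ * g * p)
    obtain ⟨-, h1⟩ := Id2Aux.norm (g := w) (a := a * 1) (b := a * b) (by simpa using ha) (by
      rw [hw, ← mul_right_inj p, ← mul_left_inj p⁻¹, ← e]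
      group)
    refine ⟨w.1 0 0, fun x => ?_⟩
    rw [mul_left_comm a, ← h1, map_mul, map_mul, map_inv, hw]
    group
  · intro g b hb e
    obtain ⟨x, hx⟩ := Id2Aux.cent (g := p⁻¹ * g * p) (mul_ne_zero ha hb) (by
      rw [← mul_left_inj p⁻¹, ← mul_right_inj p]
      calc _ = g * (p * IdL.pr 2 K (H66.upT (a * b)) * p⁻¹) := by group
        _ = _ := by rw [e]; group)
    refine ⟨x / a, ?_⟩
    rw [mul_div_cancel₀ _ ha, ← hx]
    group
  · intro δ hδ
    refine ⟨p * IdL.pr 2 K (H9.diagHom K (Units.mk0 δ hδ)) * p⁻¹, fun x => ?_⟩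
    have := H22.diag_conj_upT (Units.mk0 δ hδ) (a * x)
    rw [Units.val_mk0] at this
    rw [mul_left_comm a, ← this, map_mul, map_mul, map_inv]
    group
  · rwa [mul_one, hp, ← map_inv, ← map_mul, ← map_mul]

end Cfsg.Agent.L2S
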