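/-
Project L2S: an involutory automorphism with `S₅`-like centralizer of a subgroup of `PSL₃(K)`, `char K = 5`.
-/
import Cfsg.Agent.L2S.Defs2

set_option autoImplicit false
set_option linter.unusedSectionVars false

namespace Cfsg.Agent.L2S

open Cfsg Subgroup H49
open H42 (SylIn exists_sylIn)
open TL2 (cm cm' mn mem_sup_t p2_zpowers p2_sup)

namespace Id3

open Matrix

/-- two transvections whose product has scalar square -/
theorem transv {K A : Type*} [Field K] [Ring A] [Algebra K A] {N M : A} {κ : K} (hN : N * N = 0) (hM : M * M = 0)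
    (h : (1 + N) * (1 + M) * ((1 + N) * (1 + M)) = κ • (1 : A)) (h1 : 1 + κ ≠ 0) (h2 : (2 : K) ≠ 0) :
    N = 0 ∨ (1 + N) * (1 + M) = 1 := by
  have hN' : ∀ x, N * (N * x) = 0 := fun x => by rw [← mul_assoc, hN, zero_mul]
  have hM' : ∀ x, M * (M * x) = 0 := fun x => by rw [← mul_assoc, hM, zero_mul]
  have e : 1 + N + M + N * M = κ • (1 - M - N + M * N) := by
    have := congrArg (· * ((1 - M) * (1 - N))) h
    simp only [mul_add, add_mul, mul_sub, sub_mul, mul_one, one_mul, mul_assoc, hN, hM, hN', hM', mul_zero, zero_mul,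
      smul_mul_assoc, smul_add, smul_sub] at this ⊢
    linear_combination (norm := module) this
  have a1 : N * (M * N) = 0 := by
    have := congrArg (fun x => N * x * N) e
    simp only [mul_add, add_mul, mul_sub, sub_mul, mul_one, mul_assoc, hN, hN', smul_mul_assoc, mul_smul_comm,
      mul_zero, zero_mul] at this
    exact (smul_eq_zero_iff_right h1).1 (by linear_combination (norm := module) this)
  have a2 : N + N * M = κ • (N - N * M) := by
    have := congrArg (fun x => N * x) e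
    simp only [mul_add, mul_sub, mul_one, hN, hN', mul_smul_comm, a1] at this
    linear_combination (norm := module) this
  have a3 : N * M = κ • (N * M) := by
    have := congrArg (fun x => x * M) a2
    simpa only [add_mul, sub_mul, mul_assoc, hM, mul_zero, smul_mul_assoc, add_zero, sub_zero] using this
  by_cases k : κ = 1
  · subst k
    have a4 : N * M = 0 := (smul_eq_zero_iff_right h2).1 (by linear_combination (norm := module) a2)
    have a5 : M * N = 0 := by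
      have := congrArg (fun x => x * N) e
      simp only [add_mul, sub_mul, one_mul, mul_assoc, hN, mul_zero, one_smul, a1] at this
      exact (smul_eq_zero_iff_right h2).1 (by linear_combination (norm := module) this)
    have a6 : N + M = 0 := (smul_eq_zero_iff_right h2).1 (by
      rw [a4, a5] at e
      linear_combination (norm := module) e)
    exact .inr (by rw [add_mul, mul_add, mul_add, a4]; linear_combination (norm := noncomm_ring) a6)
  have a4 : N * M = 0 := (smul_eq_zero_iff_right (sub_ne_zero.2 k)).1 (by linear_combination (norm := module) -a3)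
  rw [a4] at a2
  exact .inl ((smul_eq_zero_iff_right (sub_ne_zero.2 k)).1 (by linear_combination (norm := module) -a2))

variable {K : Type*} [Field K] [CharP K 5] {X : Type*} [Group X]

/-- matrices of degree three -/
abbrev M3 (K : Type*) := Matrix (Fin 3) (Fin 3) K

/-- projective lifts -/
structure Lf (L : X → M3 K → Prop) : Prop where
  one : L 1 1
  mul : ∀ {x w M N}, L x M → L w N → L (x * w) (M * N)
  ex : ∀ x, ∃ M, L x M
  inj : ∀ {x w M}, L x M → L w M → x = w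
  sc : ∀ {x M N}, L x M → L x N → ∃ κ : K, κ ^ 3 = 1 ∧ N = κ • M

theorem lf_of (ι : X →* ProjectiveSpecialLinearGroup (Fin 3) K) (hι : Function.Injective ι) :
    Lf fun (x : X) (M : M3 K) => ∃ Y : SpecialLinearGroup (Fin 3) K, QuotientGroup.mk Y = ι x ∧ Y.1 = M where
  one := ⟨1, (map_one ι).symm, rfl⟩
  mul := by
    rintro x w _ _ ⟨Y, h, rfl⟩ ⟨Z, h', rfl⟩
    exact ⟨Y * Z, by rw [QuotientGroup.mk_mul, h, h', map_mul], rfl⟩
  ex x := let ⟨Y, h⟩ := QuotientGroup.mk_surjective (ι x); ⟨_, Y, h, rfl⟩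
  inj := by
    rintro x w _ ⟨Y, h, rfl⟩ ⟨Z, h', e⟩
    exact hι (by rw [← h, ← h', Subtype.ext e])
  sc := by
    rintro x _ _ ⟨Y, h, rfl⟩ ⟨Z, h', rfl⟩
    obtain ⟨κ, h1, h2⟩ := Matrix.SpecialLinearGroup.mem_center_iff.1 ((QuotientGroup.eq (a := Y) (b := Z)).1 (h.trans h'.symm))
    refine ⟨κ, h1, ?_⟩
    have : Z.1 = Y.1 * (Y⁻¹ * Z).1 := congrArg Subtype.val (mul_inv_cancel_left Y Z).symm
    rw [this, ← h2, scalar_apply, ← smul_one_eq_diagonal, Matrix.mul_smul, mul_one]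

/-- upper unitriangular matrices -/
def ut (a b c : K) : M3 K := !![1, a, c; 0, 1, b; 0, 0, 1]

theorem ut_mul (a b c a' b' c' : K) : ut a b c * ut a' b' c' = ut (a + a') (b + b') (c + c' + a * b') := by
  simp only [ut, mul_fin_three]
  congr 1 <;> ring_nf

theorem ut_zero : ut (0 : K) 0 0 = 1 := (one_fin_three).symm

theorem five : (5 : K) = 0 := CharP.cast_eq_zero K 5

theorem ut_five (a b c : K) : ut a b c ^ 5 = 1 := by
  simp only [pow_succ, pow_zero, one_mul, ut_mul, ← ut_zero]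
  congr 1
  · linear_combination a * five (K := K)
  · linear_combination b * five (K := K)
  · linear_combination (c + 2 * a * b) * five (K := K)

theorem tri_pow (a b c d e f : K) (m : ℕ) :
    ∃ b' c' e', (!![a, b, c; 0, d, e; 0, 0, f] : M3 K) ^ m = !![a ^ m, b', c'; 0, d ^ m, e'; 0, 0, f ^ m] := by
  induction m with
  | zero => exact ⟨0, 0, 0, by simp [one_fin_three]⟩
  | succ m ih =>
    obtain ⟨b', c', e', h⟩ := ih
    exact ⟨_, _, _, by rw [pow_succ, h, mul_fin_three]; simp [pow_succ]; exact ⟨⟨rfl, rfl⟩, rfl⟩⟩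

theorem ut_of {M : M3 K} {n : ℕ} (h : M ^ 5 ^ n = 1) (h1 : M 1 0 = 0) (h2 : M 2 0 = 0) (h3 : M 2 1 = 0) :
    ∃ a b c, M = ut a b c := by
  have : Fact (Nat.Prime 5) := ⟨by norm_num⟩
  have k : ∀ d : K, d ^ 5 ^ n = 1 → d = 1 := fun d hd => sub_eq_zero.1 (pow_eq_zero_iff (n := 5 ^ n) (by positivity) |>.1
    (by rw [sub_pow_char_pow, hd, one_pow, sub_self]))
  rw [eta_fin_three M, h1, h2, h3] at h ⊢
  obtain ⟨b, c, e, h'⟩ := tri_pow (M 0 0) (M 0 1) (M 0 2) (M 1 1) (M 1 2) (M 2 2) (5 ^ n)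
  rw [h'] at h
  rw [k _ (congrFun (congrFun h 0) 0), k _ (congrFun (congrFun h 1) 1), k _ (congrFun (congrFun h 2) 2)]
  exact ⟨_, _, _, rfl⟩

theorem cube {M : M3 K} (h : M ^ 5 = 1) : (M - 1) ^ 3 = 0 := by
  have : Fact (Nat.Prime 5) := ⟨by norm_num⟩
  have h1 : IsNilpotent (M - 1) := ⟨5, by rw [sub_pow_char_of_commute 5 (Commute.one_right M), h, one_pow, sub_self]⟩
  have h2 := aeval_self_charpoly (M - 1)
  rw [sub_eq_zero.1 (isNilpotent_charpoly_sub_pow_of_isNilpotent h1).eq_zero] at h2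
  simpa using h2

/-- a regular unipotent matrix is conjugate to the Jordan block -/
theorem jordan {N : M3 K} (h3 : N ^ 3 = 0) (h2 : N * N ≠ 0) :
    ∃ P Q : M3 K, P * Q = 1 ∧ Q * P = 1 ∧ P * ut 1 1 0 * Q = 1 + N := by
  obtain ⟨w, hw⟩ : ∃ w, (N * N) *ᵥ w ≠ 0 := by
    by_contra! h
    exact h2 (ext_of_mulVec_single fun i => by rw [h, zero_mulVec])
  have z : N *ᵥ (N *ᵥ (N *ᵥ w)) = 0 := by
    rw [mulVec_mulVec, mulVec_mulVec, ← pow_three', h3, zero_mulVec]
  rw [← mulVec_mulVec] at hw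
  let P : M3 K := (of ![N *ᵥ (N *ᵥ w), N *ᵥ w, w])ᵀ
  have hP : ∀ v, P *ᵥ v = v 0 • (N *ᵥ (N *ᵥ w)) + v 1 • (N *ᵥ w) + v 2 • w := fun v => by
    funext i
    simp [P, mulVec, dotProduct, Fin.sum_univ_three, mul_comm]
  have u : IsUnit P := mulVec_injective_iff_isUnit.1 <| by
    refine (injective_iff_map_eq_zero P.mulVecLin).2 fun v hv => ?_
    rw [mulVecLin_apply, hP] at hv
    have e1 := congrArg (N *ᵥ ·) hv
    simp only [mulVec_add, mulVec_smul, z, smul_zero, zero_add, mulVec_zero] at e1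
    have e2 := congrArg (N *ᵥ ·) e1
    simp only [mulVec_add, mulVec_smul, z, smul_zero, zero_add, mulVec_zero, smul_eq_zero, hw, or_false] at e2
    simp only [e2, zero_smul, add_zero, smul_eq_zero, hw, or_false] at e1
    simp only [e1, e2, zero_smul, add_zero, smul_eq_zero, hw, or_false] at hv
    funext i
    fin_cases i <;> assumption
  obtain ⟨u, hu⟩ := u
  refine ⟨P, u.inv, hu ▸ u.val_inv, hu ▸ u.inv_val, ?_⟩
  have : P * ut 1 1 0 = (1 + N) * P := ext_of_mulVec_single fun i => by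
    rw [← mulVec_mulVec, ← mulVec_mulVec, hP, hP, add_mulVec, one_mulVec]
    simp only [mulVec_add, mulVec_smul, z]
    fin_cases i <;> simp [ut, add_comm]
  rw [this, mul_assoc, ← hu, u.val_inv, mul_one]

namespace Lf

variable {L : X → M3 K → Prop} (h : Lf L)
include h

theorem cj {P Q : M3 K} (h1 : P * Q = 1) (h2 : Q * P = 1) : Lf fun (x : X) (M : M3 K) => L x (P * M * Q) where
  one := by rw [mul_one, h1]; exact h.one
  mul := fun {x w M N} a b => by
    have := h.mul a b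
    rwa [show P * M * Q * (P * N * Q) = P * M * (Q * P) * N * Q by simp only [mul_assoc], h2, mul_one,
      mul_assoc P] at this
  ex x := let ⟨M, a⟩ := h.ex x; ⟨Q * M * P, by
    rwa [show P * (Q * M * P) * Q = P * Q * M * (P * Q) by simp only [mul_assoc], h1, one_mul, mul_one]⟩
  inj a b := h.inj a b
  sc := fun {x M N} a b => by
    obtain ⟨κ, k, e⟩ := h.sc a b
    refine ⟨κ, k, ?_⟩
    have := congrArg (fun Z => Q * Z * P) e
    simpa only [Matrix.mul_smul, Matrix.smul_mul, mul_assoc, h2, mul_one, ← mul_assoc Q P, one_mul] using this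

theorem pow {x : X} {M : M3 K} (a : L x M) (n : ℕ) : L (x ^ n) (M ^ n) := by
  induction n with
  | zero => simpa using h.one
  | succ n ih => rw [pow_succ, pow_succ]; exact h.mul ih a

theorem canc {x : X} {M : M3 K} (a : L x M) {A : M3 K} (e : A * M = 0) : A = 0 := by
  obtain ⟨N, b⟩ := h.ex x⁻¹
  obtain ⟨κ, k, e'⟩ := h.sc h.one (mul_inv_cancel x ▸ h.mul a b)
  have := congrArg (· * N) e
  simp only [mul_assoc, e', Matrix.mul_smul, mul_one, zero_mul] at this
  exact (smul_eq_zero_iff_right (by rintro rfl; simp at k)).1 this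

theorem lift {x : X} {n : ℕ} (e : x ^ 5 ^ n = 1) : ∃ M, L x M ∧ M ^ 5 ^ n = 1 := by
  obtain ⟨M, a⟩ := h.ex x
  obtain ⟨κ, k, e'⟩ := h.sc h.one (e ▸ h.pow a (5 ^ n))
  obtain ⟨j, hj⟩ : 3 ∣ 1 + 5 ^ n * (2 * 5 ^ n) := by
    have : 5 ^ n % 3 = 1 ∨ 5 ^ n % 3 = 2 := by
      have := Nat.Coprime.pow_left n (show Nat.Coprime 5 3 by decide)
      have h3 : ¬ 3 ∣ 5 ^ n := fun hd => by simpa using Nat.Coprime.eq_one_of_dvd this.symm hd
      omega
    rcases this with t | t <;> simp [Nat.dvd_iff_mod_eq_zero, Nat.add_mod, Nat.mul_mod, t]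
  refine ⟨M ^ (1 + 5 ^ n * (2 * 5 ^ n)), ?_, ?_⟩
  · have := h.pow a (1 + 5 ^ n * (2 * 5 ^ n))
    rwa [pow_add x, pow_mul x, e, one_pow, pow_one, mul_one] at this
  · rw [← pow_mul, mul_comm, pow_mul, e', smul_pow, one_pow, hj, pow_mul, k, one_pow, one_smul]

theorem conj_eq {x y : X} {M A B : M3 K} (a : L x M) (b : L y A) (c : L (x * y * x⁻¹) B) (hA : A ^ 5 = 1)
    (hB : B ^ 5 = 1) : M * A = B * M := by
  obtain ⟨κ, k, e⟩ := h.sc (inv_mul_cancel_right (x * y) x ▸ h.mul c a) (h.mul a b)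
  have e1 : M * A ^ 5 = (κ • B) ^ 5 * M := (SemiconjBy.pow_right (show SemiconjBy M A (κ • B) by
    rw [SemiconjBy, e, Matrix.smul_mul]) 5)
  rw [hA, smul_pow, hB] at e1
  have e2 : (κ ^ 5 - 1) • (1 : M3 K) = 0 := h.canc a (by rw [sub_smul, sub_mul, ← e1, one_smul, one_mul, mul_one, sub_self])
  have e3 : κ = 1 := by
    have := (smul_eq_zero.1 e2).resolve_right one_ne_zero
    linear_combination (κ ^ 3 + 1) * k - κ * this
  rw [e, e3, one_smul]

theorem utU {x : X} {a b c a' b' c' : K} (h1 : L x (ut a b c)) (h2 : L x (ut a' b' c')) : a = a' := by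
  obtain ⟨κ, -, e⟩ := h.sc h1 h2
  have e1 : 1 = κ * 1 := congrFun (congrFun e 0) 0
  have e2 : a' = κ * a := congrFun (congrFun e 0) 1
  linear_combination a * e1 - e2

theorem mulU {x w : X} {a b c a' b' c' : K} (h1 : L x (ut a b c)) (h2 : L w (ut a' b' c')) :
    L (x * w) (ut (a + a') (b + b') (c + c' + a * b')) := ut_mul a b c a' b' c' ▸ h.mul h1 h2

theorem fiveU {x : X} {a b c : K} (h1 : L x (ut a b c)) : x ^ 5 = 1 :=
  h.inj (ut_five a b c ▸ h.pow h1 5) h.one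

theorem invU {x : X} {a b c : K} (h1 : L x (ut a b c)) : L x⁻¹ (ut (-a) (-b) (a * b - c)) := by
  have e : x⁻¹ = x * x * x * x := inv_eq_of_mul_eq_one_right (by rw [← h.fiveU h1]; simp [pow_succ, mul_assoc])
  have := h.mulU (h.mulU (h.mulU h1 h1) h1) h1
  rw [e]
  convert this using 2
  · linear_combination -a * five (K := K)
  · linear_combination -b * five (K := K)
  · linear_combination -(c + a * b) * five (K := K)

theorem commU {x w : X} {a b c a' b' c' : K} (h1 : L x (ut a b c)) (h2 : L w (ut a' b' c')) :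
    L (x * w * x⁻¹ * w⁻¹) (ut 0 0 (a * b' - a' * b)) := by
  convert h.mulU (h.mulU (h.mulU h1 h2) (h.invU h1)) (h.invU h2) using 2 <;> ring

/-- the unitriangular subgroup -/
def U : Subgroup X where
  carrier := {x | ∃ a b c, L x (ut a b c)}
  one_mem' := ⟨0, 0, 0, ut_zero (K := K) ▸ h.one⟩
  mul_mem' := fun ⟨_, _, _, a⟩ ⟨_, _, _, b⟩ => ⟨_, _, _, h.mulU a b⟩
  inv_mem' := fun ⟨_, _, _, a⟩ => ⟨_, _, _, h.invU a⟩

theorem pU : IsPGroup 5 h.U := fun ⟨_, _, _, _, a⟩ => ⟨1, Subtype.ext (h.fiveU a)⟩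

variable [Finite X] {y : X} (hy : L y (ut 1 1 0))
include hy

theorem le_U {P : Subgroup X} (hP : IsPGroup 5 P) (yP : y ∈ P) : P ≤ h.U := by
  have : Fact (Nat.Prime 5) := ⟨by norm_num⟩
  by_contra hn
  obtain ⟨x, ⟨xP, xN⟩, hx⟩ := SetLike.exists_of_lt (H42.lt_inf_normalizer hP (inf_lt_left.2 hn))
  obtain ⟨n, e⟩ := hP ⟨x, xP⟩
  obtain ⟨M, a, hM⟩ := h.lift (x := x) (congrArg Subtype.val e)
  obtain ⟨-, a1, b1, c1, t⟩ := cm xN (show y ∈ P ⊓ h.U from ⟨yP, _, _, _, hy⟩)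
  have e := h.conj_eq a hy t (ut_five _ _ _) (ut_five _ _ _)
  rw [eta_fin_three M, ut, ut, mul_fin_three, mul_fin_three] at e
  have e1 := congrFun (congrFun e 2) 1
  have e2 := congrFun (congrFun e 2) 2
  have e3 := congrFun (congrFun e 1) 1
  simp at e1 e2 e3
  obtain ⟨a2, b2, c2, rfl⟩ := ut_of hM (by simpa [e2] using e3) e1 e2
  exact hx ⟨xP, _, _, _, a⟩

theorem powy (i : ℕ) : ∃ c, L (y ^ i) (ut i i c) := by
  induction i with
  | zero => exact ⟨0, by simpa [ut_zero] using h.one⟩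
  | succ i ih => exact ⟨_, by rw [pow_succ, Nat.cast_succ]; exact h.mulU ih.choose_spec hy⟩

theorem zero {x : X} {c : K} (hx : x ∈ zpowers y) (t : L x (ut 0 0 c)) : x = 1 := by
  obtain ⟨i, rfl⟩ := mem_powers_iff_mem_zpowers.2 hx
  obtain ⟨c', t'⟩ := h.powy hy i
  obtain ⟨j, rfl⟩ := (CharP.cast_eq_zero_iff K 5 i).1 (h.utU t' t)
  simp only [pow_mul, h.fiveU hy, one_pow]

theorem fix {τ : MulAut X} {y' k : X} (d : IdD τ y y' k) {x : X} (hx : x ∈ h.U) (hτ : τ x = x) :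
    x ∈ zpowers y := by
  have key : ∀ x ∈ h.U, τ x = x → x * y = y * x → x ∈ zpowers y := fun x hx hτ hc => by
    obtain ⟨i, o, rfl, -, h2⟩ := d.cen x hτ hc
    have yU : y ∈ h.U := ⟨_, _, _, hy⟩
    obtain ⟨a, b, c, t⟩ := (mul_mem_cancel_left (pow_mem yU i)).1 hx
    obtain ⟨M, m, hM⟩ := h.lift (x := y') (n := 1) (by rw [pow_one, ← d.y5', pow_orderOf_eq_one])
    by_cases o1 : o = 1
    · exact o1 ▸ mul_mem (pow_mem (mem_zpowers y) i) (one_mem _)
    have e := h.conj_eq t m (by rwa [h2, mul_inv_cancel_right]) hM hM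
    have hab : a = b := by
      have c1 : o * y * o⁻¹ * y⁻¹ = 1 := by
        have : y ^ i * (o * y) = y ^ i * (y * o) := by rw [← mul_assoc, hc, ← mul_assoc, ← mul_assoc, ← pow_succ, pow_succ']
        rw [mul_left_cancel this]; group
      obtain ⟨κ, -, e⟩ := h.sc h.one (c1 ▸ h.commU t hy)
      have := congrFun (congrFun e 0) 2
      simp [ut] at this
      linear_combination this
    subst hab
    rw [eta_fin_three M, ut, mul_fin_three, mul_fin_three] at e
    have e1 := congrFun (congrFun e 2) 1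
    have e2 := congrFun (congrFun e 2) 2
    have e3 := congrFun (congrFun e 0) 0
    have e4 := congrFun (congrFun e 1) 2
    have e5 := congrFun (congrFun e 0) 1
    simp at e1 e2 e3 e4 e5
    have : M 2 0 = 0 ∧ M 2 1 = 0 ∧ M 1 0 = 0 := by
      by_cases a0 : a = 0
      · subst a0
        have c0 : c ≠ 0 := fun c0 => o1 (h.inj t (by rw [c0, ut_zero]; exact h.one))
        exact ⟨mul_left_cancel₀ c0 (by linear_combination e3), mul_left_cancel₀ c0 (by linear_combination e5),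
          mul_left_cancel₀ c0 (by linear_combination -e4)⟩
      have := e1.resolve_right a0
      exact ⟨this, mul_left_cancel₀ a0 (by linear_combination e2 - c * this),
        mul_left_cancel₀ a0 (by linear_combination e3 - c * this)⟩
    obtain ⟨a2, b2, c2, rfl⟩ := ut_of hM this.2.2 this.1 this.2.1
    have := orderOf_dvd_of_pow_eq_one (h.fiveU (h.mulU hy m))
    rw [d.two] at this
    omega
  obtain ⟨a, b, c, t⟩ := id hx
  have t1 := h.commU t hy
  have : x * y * x⁻¹ * y⁻¹ ∈ zpowers y := key _ ⟨_, _, _, t1⟩ (by simp [hτ, d.τy])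
    (h.inj (h.mulU t1 hy) (by convert h.mulU hy t1 using 2 <;> ring))
  exact key x hx hτ (by rw [← mul_inv_eq_iff_eq_mul, ← mul_inv_eq_one, h.zero hy this t1])

theorem main {τ : MulAut X} {y' k : X} (d : IdD τ y y' k) :
    ∃ U I : Subgroup X, SylIn 5 U ⊤ ∧ I ≤ U ∧ Nat.card U = 5 * Nat.card I ∧ ∀ x ∈ I, ∀ w ∈ I, x * w = w * x := by
  have : Fact (Nat.Prime 5) := ⟨by norm_num⟩
  have yU : y ∈ h.U := ⟨_, _, _, hy⟩
  have τU : ∀ x ∈ h.U, τ x ∈ h.U := fun x hx =>
    h.le_U hy (h.pU.map τ.toMonoidHom) ⟨y, yU, d.τy⟩ ⟨x, hx, rfl⟩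
  have five : ∀ x ∈ h.U, x ^ 5 = 1 := fun x ⟨_, _, _, t⟩ => h.fiveU t
  have cm : ∀ x ∈ h.U, τ x = x⁻¹ → ∀ w ∈ h.U, τ w = w⁻¹ → x * w = w * x := by
    rintro x ⟨a, b, c, t⟩ hx w ⟨a', b', c', t'⟩ hw
    have t1 := h.commU t t'
    have t2 := h.commU (h.invU t) (h.invU t')
    rw [neg_mul_neg, neg_mul_neg] at t2
    rw [← mul_inv_eq_iff_eq_mul, ← mul_inv_eq_one,
      h.zero hy (h.fix hy d ⟨_, _, _, t1⟩ (by simpa [hx, hw] using h.inj t2 t1)) t1]
  let I : Subgroup X :=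
    { carrier := {x | x ∈ h.U ∧ τ x = x⁻¹}
      one_mem' := ⟨one_mem _, by simp⟩
      mul_mem' := fun {x w} a b => ⟨mul_mem a.1 b.1, by rw [map_mul, a.2, b.2, cm x a.1 a.2 w b.1 b.2, _root_.mul_inv_rev]⟩
      inv_mem' := fun a => ⟨inv_mem a.1, by rw [map_inv, a.2]⟩ }
  obtain ⟨S, hS, hle⟩ := exists_sylIn h.pU le_top
  refine ⟨h.U, I, le_antisymm (h.le_U hy hS.isP (hle yU)) hle ▸ hS, fun x hx => hx.1, ?_,
    fun x a w b => cm x a.1 a.2 w b.1 b.2⟩
  have τy : ∀ x ∈ zpowers y, τ x = x := by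
    rintro _ ⟨i, rfl⟩
    rw [map_zpow, d.τy]
  rw [← d.y5, ← Nat.card_zpowers, ← Nat.card_prod]
  refine (Nat.card_eq_of_bijective (fun p : zpowers y × I => (⟨p.1 * p.2, mul_mem (zpowers_le.2 yU p.1.2) p.2.2.1⟩ : h.U))
    ⟨fun ⟨p, q⟩ ⟨p', q'⟩ e => ?_, fun ⟨x, hx⟩ => ?_⟩).symm
  · have e1 : (p : X) * q = p' * q' := congrArg Subtype.val e
    have e2 : (p' : X)⁻¹ * p = q' * (q : X)⁻¹ := by rw [inv_mul_eq_iff_eq_mul, ← mul_assoc, ← e1, mul_inv_cancel_right]
    have e3 := (mul_mem q'.2 (inv_mem q.2) : (q' : X) * (q : X)⁻¹ ∈ I)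
    have e4 : (q' : X) * (q : X)⁻¹ = 1 := by
      generalize (q' : X) * (q : X)⁻¹ = z at e2 e3
      have e5 : z * z = 1 := mul_eq_one_iff_eq_inv.2 ((e2 ▸ τy _ (mul_mem (inv_mem p'.2) p.2)).symm.trans e3.2)
      calc z = z * z * (z * z) * z := by rw [e5, one_mul, one_mul]
        _ = 1 := by rw [← five z e3.1]; simp only [pow_succ, pow_zero, one_mul, mul_assoc]
    rw [e4, inv_mul_eq_one] at e2
    exact Prod.ext (Subtype.ext e2.symm) (Subtype.ext (mul_inv_eq_one.1 e4).symm)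
  have sI : x⁻¹ * τ x ∈ I := ⟨mul_mem (inv_mem hx) (τU x hx), by simp [d.ττ]⟩
  obtain ⟨s, hs⟩ : ∃ s, s = x⁻¹ * τ x := ⟨_, rfl⟩
  rw [← hs] at sI
  refine ⟨⟨⟨x * s ^ 3, h.fix hy d (mul_mem hx (pow_mem sI.1 3)) ?_⟩, ⟨(s ^ 3)⁻¹, inv_mem (pow_mem sI 3)⟩⟩,
    Subtype.ext (mul_inv_cancel_right _ _)⟩
  rw [map_mul, (pow_mem sI 3).2, show τ x = x * s by rw [hs, mul_inv_cancel_left], mul_assoc, mul_right_inj,
    mul_inv_eq_iff_eq_mul, ← pow_add, pow_succ, five s sI.1, one_mul]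

end Lf

end Id3

variable {G F : Type*} [Group G] [Finite G] [Field F] [Fintype F] [CharP F 2]

open Matrix Id3 in
/-- a Sylow `5`-subgroup has an abelian subgroup of index five -/
theorem IdD.id3 {K : Type*} [Field K] [Fintype K] [CharP K 5] {X : Type*} [Group X] [Finite X]
    {τ : MulAut X} {y y' k : X} (h : IdD τ y y' k)
    (ι : X →* ProjectiveSpecialLinearGroup (Fin 3) K) (hι : Function.Injective ι) :
    ∃ U I : Subgroup X, SylIn 5 U ⊤ ∧ I ≤ U ∧ Nat.card U = 5 * Nat.card I ∧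
      ∀ x ∈ I, ∀ w ∈ I, x * w = w * x := by
  obtain ⟨L, l⟩ : ∃ L : X → M3 K → Prop, Lf L := ⟨_, lf_of ι hι⟩
  obtain ⟨Y, a, hY⟩ := l.lift (x := y) (n := 1) (by rw [pow_one, ← h.y5, pow_orderOf_eq_one])
  by_cases hN : (Y - 1) * (Y - 1) = 0
  swap
  · obtain ⟨P, Q, h1, h2, e⟩ := jordan (cube hY) hN
    exact (l.cj h1 h2).main (by rwa [e, add_sub_cancel]) h
  exfalso
  obtain ⟨Z, b, hZ⟩ := l.lift (x := y') (n := 1) (by rw [pow_one, ← h.y5', pow_orderOf_eq_one])
  obtain ⟨g, hg⟩ := h.conj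
  obtain ⟨M, m⟩ := l.ex g
  have e := l.conj_eq m a (hg ▸ b) hY hZ
  have e1 : (Z - 1) * M = M * (Y - 1) := by rw [sub_mul, mul_sub, e, one_mul, mul_one]
  have hM : (Z - 1) * (Z - 1) = 0 := l.canc m (by rw [mul_assoc, e1, ← mul_assoc, e1, mul_assoc, hN, mul_zero])
  obtain ⟨κ, k3, e2⟩ := l.sc l.one (show L 1 (Y * Z * (Y * Z)) by
    rw [← pow_orderOf_eq_one (y * y'), h.two, pow_two]; exact l.mul (l.mul a b) (l.mul a b))
  have h2 : (2 : K) ≠ 0 := fun h2 => one_ne_zero (α := K) (by linear_combination five (K := K) - 2 * h2)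
  rcases transv hN hM (κ := κ) (by rwa [add_sub_cancel, add_sub_cancel])
    (fun h1 => h2 (by linear_combination (κ ^ 2 - κ + 1) * h1 - k3)) h2 with e3 | e3
  · have := h.y5
    rw [l.inj a (sub_eq_zero.1 e3 ▸ l.one), orderOf_one] at this
    omega
  have := h.two
  rw [add_sub_cancel, add_sub_cancel] at e3
  rw [l.inj (l.mul a b) (e3 ▸ l.one), orderOf_one] at this
  omega

end Cfsg.Agent.L2S
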