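/-
Standard subgroups of type `L₂(2^a)` (S1773): the Sylow `2`-subgroup of `C(A)` has order two.
See `notes/L2S.md`.
-/
import Cfsg.Agent.L2S.Base2
import Cfsg.Agent.H8.StrongEmb

set_option autoImplicit false
set_option linter.unusedSectionVars false

namespace Cfsg.Agent.L2S

open Cfsg Subgroup H49
open H42 (SylIn exists_sylIn)
open TL2 (cm cm' mn mem_sup_t p2_zpowers p2_sup)

variable {G F : Type*} [Group G] [Finite G] [Field F] [Fintype F] [CharP F 2]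

namespace StepR

open Base2

variable (c : Ctx0 G F)

theorem tCA : c.t ∈ 𝒞(c.A) := mem_centralizer_iff.2 fun _ hy => (c.tA hy).symm

theorem uniq {r : G} (h1 : r ∈ c.T) (h2 : r ∈ 𝒞(c.A)) (sq : r * r = 1) : r = 1 ∨ r = c.t := by
  by_cases e : r = 1
  · exact Or.inl e
  exact Or.inr (H8.involution_unique_of_isCyclic c.cyc ⟨h1, h2⟩ ⟨c.t_mem_T, tCA c⟩
    (orderOf_eq_prime (by rw [pow_two, sq]) e) (orderOf_eq_prime (by rw [pow_two, c.tt]) c.t1))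

theorem commR {r s : G} (h1 : r ∈ c.T) (h2 : r ∈ 𝒞(c.A)) (h3 : s ∈ c.T) (h4 : s ∈ 𝒞(c.A)) :
    r * s = s * r :=
  mem_centralizer_iff.1 (abelian_iff.1 (abelian_of_cyclic c.cyc) ⟨h3, h4⟩) r ⟨h1, h2⟩

theorem dec {y : G} (h1 : y ∈ c.T) (h2 : y ∈ 𝒞(c.V)) :
    ∃ v ∈ c.V, ∃ r ∈ c.T, r ∈ 𝒞(c.A) ∧ y = v * r := by
  obtain ⟨b, hb⟩ := c.ker (c.CNA (c.Tt h1)) h2
  exact ⟨c.z b, c.z_mem b, _, mul_mem (inv_mem (c.V_le_T (c.z_mem b))) h1, hb, by group⟩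

theorem comm0 {x y : G} (hx : x ∈ c.T ⊓ 𝒞(c.V)) (hy : y ∈ c.T ⊓ 𝒞(c.V)) : x * y = y * x := by
  obtain ⟨v, hv, r, r1, r2, rfl⟩ := dec c hx.1 hx.2
  obtain ⟨w, hw, s, s1, s2, rfl⟩ := dec c hy.1 hy.2
  have h1 : Commute v w := c.commV hv hw
  have h2 : Commute v s := mem_centralizer_iff.1 s2 v (c.V_le_A hv)
  have h3 : Commute w r := mem_centralizer_iff.1 r2 w (c.V_le_A hw)
  have h4 : Commute r s := commR c r1 r2 s1 s2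
  exact (h1.mul_right h2).mul_left (h3.symm.mul_right h4)

theorem sq0 {y : G} (hy : y ∈ c.T ⊓ 𝒞(c.V)) :
    ∃ v ∈ c.V, ∃ r ∈ c.T, r ∈ 𝒞(c.A) ∧ y = v * r ∧ y * y = r * r := by
  obtain ⟨v, hv, r, r1, r2, rfl⟩ := dec c hy.1 hy.2
  refine ⟨v, hv, r, r1, r2, rfl, ?_⟩
  have h : v * r = r * v := mem_centralizer_iff.1 r2 v (c.V_le_A hv)
  calc v * r * (v * r) = r * v * (v * r) := by rw [← h]
    _ = r * (v * v) * r := by group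
    _ = r * r := by rw [c.sqV hv, mul_one]

/-- the only involution of `C_T(V)` which is a square is `t` -/
theorem sq_eq {y : G} (hy : y ∈ c.T ⊓ 𝒞(c.V)) (h1 : y * y ≠ 1) (h2 : y * y * (y * y) = 1) :
    y * y = c.t := by
  obtain ⟨v, -, r, r1, r2, -, e⟩ := sq0 c hy
  rw [e] at h1 h2 ⊢
  exact (uniq c (mul_mem r1 r1) (mul_mem r2 r2) h2).resolve_left h1

theorem exists_root {y : G} (hy : y ∈ c.T ⊓ 𝒞(c.V)) (h1 : y * y ≠ 1) :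
    ∃ j : ℕ, y ^ j * y ^ j = c.t := by
  obtain ⟨n, hn⟩ := c.syl.isP ⟨y * y, mul_mem hy.1 hy.1⟩
  obtain ⟨j, h2, h3⟩ := exists_pow_sq (H := ⊥) (n := n) (x := y * y) h1
    (congrArg Subtype.val hn)
  rw [(Commute.refl y).mul_pow] at h2 h3
  exact ⟨_, sq_eq c (pow_mem hy _) h2 h3⟩

theorem sq_lt (a : ℕ) : a ^ 2 < 4 * 2 ^ a := by
  induction a with
  | zero => norm_num
  | succ a ih =>
    have : a < 2 ^ a := Nat.lt_two_pow_self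
    rw [pow_succ 2 a]
    nlinarith

variable {ρ : G} (ρT : ρ ∈ c.T) (ρA : ρ ∈ 𝒞(c.A)) (ρρ : ρ * ρ = c.t)
include ρT ρA ρρ

theorem card0 : 4 * 2 ^ c.a ≤ Nat.card (c.T ⊓ 𝒞(c.V) : Subgroup G) := by
  have h1 : c.B ≤ c.T ⊓ 𝒞(c.V) := le_inf c.B_le_T c.B_le_CV
  have h2 := H42.card_mul_relIndex h1
  have h3 : c.B.relIndex (c.T ⊓ 𝒞(c.V)) ≠ 1 := fun e =>
    c.t1 (ρρ ▸ c.sqB (relIndex_eq_one.1 e ⟨ρT, cent_anti c.V_le_A ρA⟩))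
  have h4 : c.B.relIndex (c.T ⊓ 𝒞(c.V)) ≠ 0 := index_ne_zero_of_finite
  rw [← h2, c.cardB]
  calc _ = 2 * 2 ^ c.a * 2 := by ring
    _ ≤ _ := Nat.mul_le_mul_left _ (by omega)

theorem lemK {g : G} (h : cj g (c.T ⊓ 𝒞(c.V)) ≤ c.T) : g * c.t * g⁻¹ = c.t := by
  by_cases h1 : ∃ y ∈ cj g (c.T ⊓ 𝒞(c.V)), y ∈ 𝒞(c.V) ∧ y * y ≠ 1
  · obtain ⟨y, hy, yV, yy⟩ := h1
    obtain ⟨j, hj⟩ := exists_root c ⟨h hy, yV⟩ yy
    obtain ⟨w, hw, e⟩ := mem_cj'.1 (pow_mem hy j)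
    rw [e, conj_mul] at hj
    have h2 : w * w = c.t := sq_eq c hw (fun e' => c.t1 (by rw [← hj, e']; group)) (by
      have := c.tt
      rwa [← hj, conj_mul, conj_eq_one_iff] at this)
    rwa [h2] at hj
  exfalso
  push Not at h1
  have hx : g * ρ * g⁻¹ ∈ cj g (c.T ⊓ 𝒞(c.V)) := conj_mem_cj.2 ⟨ρT, cent_anti c.V_le_A ρA⟩
  have xV : g * ρ * g⁻¹ ∉ 𝒞(c.V) := fun e => c.t1 (by
    have := h1 _ hx e
    rwa [conj_mul, conj_eq_one_iff, ρρ] at this)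
  have hc : 4 * 2 ^ c.a ≤ Nat.card (cj g (c.T ⊓ 𝒞(c.V))) := by
    rw [card_cj]; exact card0 c ρT ρA ρρ
  have cX : ∀ x ∈ cj g (c.T ⊓ 𝒞(c.V)), ∀ y ∈ cj g (c.T ⊓ 𝒞(c.V)), x * y = y * x :=
    fun x hx y hy => by
      obtain ⟨x', hx', rfl⟩ := mem_cj'.1 hx
      obtain ⟨y', hy', rfl⟩ := mem_cj'.1 hy
      rw [conj_mul, conj_mul, comm0 c hx' hy']
  generalize cj g (c.T ⊓ 𝒞(c.V)) = X at h h1 hx hc cX
  generalize g * ρ * g⁻¹ = x at hx xV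
  have h2 : c.t ∈ 𝒩(c.V ⊓ 𝒞[x]) := tN c (inf_le_left.trans (c.V_le_T.trans c.T_le))
  have h3 : Nat.card (𝒞(c.V) ⊓ X : Subgroup G) ≤ 2 * Nat.card (c.V ⊓ 𝒞[x] : Subgroup G) := by
    rw [← c.cardP h2 fun h => c.t_notMem_V h.1]
    refine card_le_of_le fun d hd => (c.mem_P h2).2 ?_
    obtain ⟨v, hv, r, r1, r2, e1, e2⟩ := sq0 c (y := d) ⟨h hd.2, hd.1⟩
    have dx : d ∈ 𝒞[x] := mem_cent1.2 (cX d hd.2 x hx)
    rcases uniq c r1 r2 (e2 ▸ h1 d hd.2 hd.1) with e | e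
    · exact Or.inl ⟨by rwa [e1, e, mul_one], dx⟩
    · exact Or.inr ⟨by rwa [e1, e, ← c.tA (c.V_le_A hv), c.tt'],
        mul_mem (mem_cent1.2 (c.Tt (h hx)).symm) dx⟩
  have h4 := c.out_card_le (h hx) xV
  obtain ⟨f, -, k, h5, h6, -⟩ := c.Tcyc
  have h7 : (𝒞(c.V)).relIndex X ≤ c.a :=
    (relIndex_le_of_le_right h (by rw [h6]; positivity)).trans
      (h6 ▸ Nat.le_of_dvd (by have := c.ha; omega) h5)
  rw [← card_inf_mul_relIndex (𝒞(c.V)) X] at hc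
  have h8 := hc.trans (Nat.mul_le_mul h3 h7)
  have h9 := sq_lt c.a
  generalize Nat.card (c.V ⊓ 𝒞[x] : Subgroup G) = m at h4 h8
  have h10 : 0 < 2 ^ c.a := by positivity
  generalize 2 ^ c.a = q at h4 h8 h9 h10
  have h11 : 2 * q ≤ m * c.a := by nlinarith
  have h12 : (2 * q) ^ 2 ≤ (m * c.a) ^ 2 := Nat.pow_le_pow_left h11 2
  have h13 : (m * c.a) ^ 2 ≤ q * c.a ^ 2 := by
    rw [mul_pow]; exact Nat.mul_le_mul_right _ h4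
  have h14 : q * c.a ^ 2 < q * (4 * q) := Nat.mul_lt_mul_of_pos_left h9 h10
  nlinarith

/-- the only conjugate of `t` in `C_T(V)` is `t` -/
theorem only {g : G} (h : g * c.t * g⁻¹ ∈ c.T ⊓ 𝒞(c.V)) : g * c.t * g⁻¹ = c.t := by
  obtain ⟨k, h1, h2⟩ := TL2.two_le c.syl (R := c.T ⊓ 𝒞(c.V)) c.syl.isP.to_inf_left (g := g)
    fun x hx => mem_cent1.2 (comm0 c hx h)
  exact conj_injective (h1.trans (lemK c ρT ρA ρρ h2).symm)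

theorem false_of : False := by
  obtain ⟨g, sT, st⟩ := c.exists_conj_ne (TL2.syl_of_fus c.syl c.t_mem_T c.syl.isP le_rfl
    fun g hg => ⟨1, one_mem _, by
      rw [lemK c ρT ρA ρρ (cj_le_of_mem_norm inf_le_left hg)]; simp⟩) c.t_mem_T
  have sV : g * c.t * g⁻¹ ∉ 𝒞(c.V) := fun e => st (only c ρT ρA ρρ ⟨sT, e⟩)
  have ss : g * c.t * g⁻¹ * (g * c.t * g⁻¹) = 1 := by rw [conj_mul, c.tt]; group
  obtain ⟨k, hk, hT⟩ := TL2.two_le c.syl (R := c.T ⊓ 𝒞[g * c.t * g⁻¹]) c.syl.isP.to_inf_left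
    (g := g) inf_le_right
  generalize hs : g * c.t * g⁻¹ = s at sT st sV ss hk hT
  have sV2 : s * s ∈ 𝒞(c.V) := ss ▸ one_mem _
  have h1 : ∀ u ∈ c.T ⊓ 𝒞[s], (∃ y : G, y * s * y⁻¹ = s * u) → k * u * k⁻¹ ∈ 𝒞(c.V) → u = 1 := by
    rintro u hu ⟨y, hy⟩ e
    have h2 : k * y * g * c.t * (k * y * g)⁻¹ = c.t * (k * u * k⁻¹) := by
      calc _ = k * (y * (g * c.t * g⁻¹) * y⁻¹) * k⁻¹ := by group
        _ = _ := by rw [hs, hy, ← hk, conj_mul]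
    have h3 := only c ρT ρA ρρ (g := k * y * g) (h2 ▸ ⟨mul_mem c.t_mem_T (hT (conj_mem_cj.2 hu)),
      mul_mem (c.B_le_CV (c.t_mem_P _)) e⟩)
    rw [h2, mul_eq_left] at h3
    exact conj_eq_one_iff.1 h3
  have h2 : ∀ u ∈ c.T ⊓ 𝒞[s], ∀ w ∈ c.T ⊓ 𝒞[s], u * u = 1 → w * w = 1 → u ≠ 1 → w ≠ 1 →
      (∃ y : G, y * s * y⁻¹ = s * u) → (∃ y : G, y * s * y⁻¹ = s * w) →
      (∃ y : G, y * s * y⁻¹ = s * (u * w)) → u * w = 1 := by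
    intro u hu w hw uu ww u1 w1 e1 e2 e3
    refine h1 _ (mul_mem hu hw) e3 ?_
    rw [← conj_mul]
    exact c.out_uniq (hT (conj_mem_cj.2 hu)) (fun e => u1 (h1 u hu e1 e))
      (by rw [conj_mul, uu]; simp) (hT (conj_mem_cj.2 hw)) (fun e => w1 (h1 w hw e2 e))
      (by rw [conj_mul, ww]; simp)
  have h3 : ∀ v ∈ c.V ⊓ 𝒞[s], ∃ y ∈ c.V, y * s * y⁻¹ = s * v := fun v hv => by
    obtain ⟨u, hu, e⟩ := c.out_free sT sV sV2 hv.1 (mem_cent1.1 hv.2)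
    refine ⟨u, hu, ?_⟩
    rw [e, inv_eq_of_mul_eq_one_right (c.sqV hu), inv_eq_of_mul_eq_one_right ss]
    calc u * s * u = s * s * (u * s * u) := by rw [ss, one_mul]
      _ = _ := by group
  have h3' : ∀ v ∈ c.V ⊓ 𝒞[s], ∃ y, y * s * y⁻¹ = s * v := fun v hv =>
    (h3 v hv).imp fun _ h => h.2
  have z1 : c.z 1 ∈ c.V ⊓ 𝒞[s] := ⟨c.z_mem 1, mem_cent1.2 (c.Tz sT).symm⟩
  have z1' : c.z 1 ≠ 1 := fun e => one_ne_zero (c.z_eq_one.1 e)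
  have hle : c.V ⊓ 𝒞[s] ≤ c.T ⊓ 𝒞[s] := inf_le_inf_right _ c.V_le_T
  have h4 : c.V ⊓ 𝒞[s] ≤ zpowers (c.z 1) := fun u hu => by
    by_cases u1 : u = 1
    · exact u1 ▸ one_mem _
    rw [eq_inv_of_mul_eq_one_left (h2 u (hle hu) _ (hle z1) (c.sqV hu.1) (c.z_sq 1) u1 z1'
      (h3' u hu) (h3' _ z1) (h3' _ (mul_mem hu z1)))]
    exact inv_mem (mem_zpowers _)
  have a2 : c.a = 2 := by
    have h5 := card_le_of_le h4
    rw [Nat.card_zpowers, orderOf_eq_prime (by rw [pow_two, c.z_sq]) z1'] at h5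
    have h6 := Nat.pow_le_pow_left h5 2
    rw [c.out_card sT sV sV2] at h6
    exact le_antisymm ((Nat.pow_le_pow_iff_right (by norm_num)).1 h6) c.ha
  have h5 : ∀ y ∈ c.T, y * y ∈ 𝒞(c.V) := fun y hy => by
    obtain ⟨f, -, j, ⟨m, hm⟩, h6, -⟩ := c.Tcyc
    have := normal_subgroupOf (norm_cent c.T_le_NV)
    have h7 : y ^ 2 ^ j ∈ 𝒞(c.V) := by
      rw [← h6]
      exact mem_subgroupOf.1 (((𝒞(c.V)).subgroupOf c.T).pow_index_mem ⟨y, hy⟩)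
    rw [← pow_two, ← a2, hm, pow_mul]
    exact pow_mem h7 m
  by_cases hρ : s * ρ = ρ * s
  · have h6 := hT (conj_mem_cj.2 (⟨ρT, mem_cent1.2 hρ.symm⟩ : ρ ∈ c.T ⊓ 𝒞[s]))
    have h7 := only c ρT ρA ρρ (g := k) (by
      rw [← ρρ, ← conj_mul]
      exact ⟨mul_mem h6 h6, h5 _ h6⟩)
    exact st (conj_injective (hk.trans h7.symm))
  have r1 : s * ρ * s⁻¹ ∈ c.T := mul_mem (mul_mem sT ρT) (inv_mem sT)
  have r2 : s * ρ * s⁻¹ ∈ 𝒞(c.A) := cm (norm_cent le_rfl (c.CNA (c.Tt sT))) ρA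
  have h6 : s * ρ * s⁻¹ * ρ⁻¹ = c.t := by
    refine (uniq c (mul_mem r1 (inv_mem ρT)) (mul_mem r2 (inv_mem ρA)) ?_).resolve_left fun e =>
      hρ (mul_inv_eq_iff_eq_mul.1 (mul_inv_eq_one.1 e))
    have h7 : Commute (s * ρ * s⁻¹) ρ⁻¹ := commR c r1 r2 (inv_mem ρT) (inv_mem ρA)
    rw [← pow_two, h7.mul_pow, pow_two, conj_mul, inv_pow, pow_two, ρρ, c.Tt sT]
    group
  have h7 : ρ * s * ρ⁻¹ = s * c.t := by
    rw [← h6, inv_eq_of_mul_eq_one_right ss]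
    calc ρ * s * ρ⁻¹ = s * s * (ρ * s * ρ⁻¹) := by rw [ss, one_mul]
      _ = _ := by group
  obtain ⟨u, hu, e⟩ := h3 _ z1
  have h8 := h2 c.t ⟨c.t_mem_T, mem_cent1.2 (c.Tt sT).symm⟩ _ (hle z1) c.tt (c.z_sq 1) c.t1 z1'
    ⟨ρ, h7⟩ ⟨u, e⟩ ⟨u * ρ, by
      calc _ = u * (ρ * s * ρ⁻¹) * u⁻¹ := by group
        _ = u * s * u⁻¹ * (u * c.t * u⁻¹) := by rw [h7, conj_mul]
        _ = _ := by rw [e, ← c.tA (c.V_le_A hu), mul_inv_cancel_right, c.tz, mul_assoc]⟩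
  exact c.t_notMem_V (eq_inv_of_mul_eq_one_left h8 ▸ inv_mem (c.z_mem 1))

end StepR

theorem Ctx0.r2 (c : Ctx0 G F) : ∀ x ∈ c.T, x ∈ 𝒞(c.φ.range) → x = 1 ∨ x = c.t := by
  intro x hx hA
  refine StepR.uniq c hx hA ?_
  by_contra h
  obtain ⟨j, hj⟩ := StepR.exists_root c (y := x) ⟨hx, cent_anti c.V_le_A hA⟩ h
  exact StepR.false_of c (pow_mem hx j) (pow_mem hA j) hj

end Cfsg.Agent.L2S
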